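import Groth.Agent.Lib.SpQuot.Glue
import Groth.Prelude.Def_AlgSpRep

/-!
# Descent of sheaves along a covering sieve of a scheme

For sheaves over the members of a sieve with cartesian transition maps, the sheaf over `h_U` of compatible
families of sections has these sheaves as base changes.
-/

set_option autoImplicit false
set_option backward.isDefEq.respectTransparency false
set_option backward.isDefEq.respectTransparency.types false

universe u

open CategoryTheory CategoryTheory.Limits AlgebraicGeometry Opposite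

namespace Groth.Agent.Lib.SpQuot

open AlgSp (Sp PSp yon)
open Groth.Agent.Lib.AlgSpace

variable {S : Scheme.{u}} {U : Over S}

/-- Descent data of sheaves on a sieve. -/
structure Dat (R : Sieve U) where
  /-- the sheaves -/
  obj : (Stk.sieveCat R).obj → Sp S
  /-- their maps to the members -/
  π : ∀ a, obj a ⟶ (yon S).obj a.obj.left
  /-- the transition maps -/
  map : ∀ {a b : (Stk.sieveCat R).obj}, (a ⟶ b) → (obj a ⟶ obj b)
  cart : ∀ {a b : (Stk.sieveCat R).obj} (m : a ⟶ b), IsPullback (map m) (π a) (π b) ((yon S).map m.hom.left)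
  map_id : ∀ a, map (𝟙 a) = 𝟙 (obj a)
  map_comp : ∀ {a b c : (Stk.sieveCat R).obj} (m : a ⟶ b) (n : b ⟶ c), map (m ≫ n) = map m ≫ map n

namespace Dat

variable {R : Sieve U} (D : Dat R)

/-- A compatible family of sections over `Z`. -/
structure Sec (Z : Over S) : Type (u + 1) where
  /-- the map to the base -/
  base : Z ⟶ U
  /-- the sections -/
  sec : ∀ (a : (Stk.sieveCat R).obj) (v : a.obj.left ⟶ Z), v ≫ base = a.obj.hom →
    ((yon S).obj a.obj.left ⟶ D.obj a)
  sec_π : ∀ a v h, sec a v h ≫ D.π a = 𝟙 _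
  sec_map : ∀ (a b : (Stk.sieveCat R).obj) (m : a ⟶ b) (v : b.obj.left ⟶ Z) (h : v ≫ base = b.obj.hom)
    (h' : (m.hom.left ≫ v) ≫ base = a.obj.hom),
    (yon S).map m.hom.left ≫ sec b v h = sec a (m.hom.left ≫ v) h' ≫ D.map m

variable {D}

theorem Sec.ext' {Z : Over S} {σ τ : D.Sec Z} (hb : σ.base = τ.base)
    (hs : ∀ a v h h', σ.sec a v h = τ.sec a v h') : σ = τ := by
  obtain ⟨b, s, _, _⟩ := σ
  obtain ⟨b', s', _, _⟩ := τ
  obtain rfl : b = b' := hb
  congr
  funext a v h
  exact hs a v h h

theorem Sec.congr {Z : Over S} (σ : D.Sec Z) {a : (Stk.sieveCat R).obj} {v v' : a.obj.left ⟶ Z}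
    (e : v = v') (h : v ≫ σ.base = a.obj.hom) (h' : v' ≫ σ.base = a.obj.hom) :
    σ.sec a v h = σ.sec a v' h' := by subst e; rfl

theorem Sec.congr' {Z : Over S} {σ τ : D.Sec Z} (e : σ = τ) {a : (Stk.sieveCat R).obj}
    (v : a.obj.left ⟶ Z) (h : v ≫ σ.base = a.obj.hom) (h' : v ≫ τ.base = a.obj.hom) :
    σ.sec a v h = τ.sec a v h' := by subst e; rfl

/-- Restriction of families of sections. -/
def Sec.restr {Z Z' : Over S} (σ : D.Sec Z) (g : Z' ⟶ Z) : D.Sec Z' where
  base := g ≫ σ.base
  sec a v h := σ.sec a (v ≫ g) (by rw [Category.assoc, h])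
  sec_π a v h := σ.sec_π _ _ _
  sec_map a b m v h h' := by
    rw [σ.sec_map a b m (v ≫ g) (by rw [Category.assoc, h])
      (by rw [Category.assoc, Category.assoc, h]; exact Over.w m.hom)]
    rw [σ.congr (Category.assoc m.hom.left v g).symm]

variable (D)

/-- The presheaf of families of sections. -/
def psh : PSp S where
  obj Z := D.Sec Z.unop
  map g := ↾fun σ => σ.restr g.unop
  map_id Z := by
    ext σ
    exact Sec.ext' (Category.id_comp _) fun a v h h' => σ.congr (Category.comp_id v) _ _
  map_comp g g' := by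
    ext σ
    exact Sec.ext' (Category.assoc _ _ _) fun a v h h' => σ.congr (Category.assoc v _ _).symm _ _

theorem isSheaf : Presheaf.IsSheaf (AlgSp.J S) D.psh := by
  rw [isSheaf_iff_isSheaf_of_type]
  intro Z T hT x hx
  have hx' := (Presieve.compatible_iff_sieveCompatible x).1 hx
  let x' : ∀ ⦃W : Over S⦄ (w : W ⟶ Z), T w → D.Sec W := x
  have hxc : ∀ ⦃W W' : Over S⦄ (g : W' ⟶ W) (w : W ⟶ Z) (hw : T w),
      x' (g ≫ w) (T.downward_closed hw g) = (x' w hw).restr g := fun W W' g w hw => hx' w g hw
  obtain ⟨base₀, hbase₀, -⟩ := exists_glue hT (fun W w hw => (yon S).map (x' w hw).base) fun W W' g w hw => by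
    rw [hxc g w hw, ← Functor.map_comp]; rfl
  let base : Z ⟶ U := (yon S).preimage base₀
  have hb : ∀ ⦃W : Over S⦄ (w : W ⟶ Z) (hw : T w), (x' w hw).base = w ≫ base := fun W w hw =>
    (yon S).map_injective (by rw [Functor.map_comp, (yon S).map_preimage, hbase₀ w hw])
  -- the value on a member of the sieve mapping into `T`
  let val := fun (a : (Stk.sieveCat R).obj) (v : a.obj.left ⟶ Z) (h : v ≫ base = a.obj.hom)
      (a' : (Stk.sieveCat R).obj) (m : a' ⟶ a) (hm : T (m.hom.left ≫ v)) =>
    (x' _ hm).sec a' (𝟙 _) (by rw [Category.id_comp, hb, Category.assoc, h]; exact Over.w m.hom) ≫ D.map m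
  have val_comp : ∀ (a : (Stk.sieveCat R).obj) (v : a.obj.left ⟶ Z) (h : v ≫ base = a.obj.hom)
      (a' : (Stk.sieveCat R).obj) (m : a' ⟶ a) (hm : T (m.hom.left ≫ v)) (a'' : (Stk.sieveCat R).obj) (n : a'' ⟶ a')
      (hn : T ((n ≫ m).hom.left ≫ v)), val a v h a'' (n ≫ m) hn = (yon S).map n.hom.left ≫ val a v h a' m hm := by
    intro a v h a' m hm a'' n hn
    simp only [val]
    rw [reassoc_of% ((x' _ hm).sec_map a'' a' n (𝟙 _) (by rw [Category.id_comp, hb, Category.assoc, h]; exact Over.w m.hom)
      (by rw [Category.comp_id, hb, Category.assoc, h, Over.w m.hom]; exact Over.w n.hom))]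
    rw [D.map_comp]
    congr 1
    have e : x' ((n ≫ m).hom.left ≫ v) hn = (x' _ hm).restr n.hom.left := by
      rw [← hxc n.hom.left _ hm]
      congr 1
    refine (Sec.congr' e _ _ (by
      change _ ≫ n.hom.left ≫ (x' _ hm).base = _
      rw [Category.id_comp, hb, Category.assoc, h, Over.w m.hom]; exact Over.w n.hom)).trans ?_
    exact (x' _ hm).congr (Eq.trans (Category.id_comp _) (Category.comp_id _).symm) _ _
  -- the glued section on each member
  have hglue : ∀ a (v : a.obj.left ⟶ Z) (h : v ≫ base = a.obj.hom),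
      ∃! s : (yon S).obj a.obj.left ⟶ D.obj a, ∀ a' (m : a' ⟶ a) (hm : T (m.hom.left ≫ v)),
        (yon S).map m.hom.left ≫ s = val a v h a' m hm := by
    intro a v h
    let ar : ∀ ⦃W : Over S⦄ (w : W ⟶ a.obj.left), mem (w ≫ a.obj.hom) (R.downward_closed a.property w) ⟶ a :=
      fun W w => arr w rfl
    obtain ⟨s, hs, hu⟩ := exists_glue ((AlgSp.J S).pullback_stable v hT)
      (fun W w hw => val a v h _ (ar w) hw) fun W W' g w hw => by
        let n : mem ((g ≫ w) ≫ a.obj.hom) (R.downward_closed a.property _) ⟶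
            mem (w ≫ a.obj.hom) (R.downward_closed a.property w) := arr g (Category.assoc _ _ _).symm
        have e : ar (g ≫ w) = n ≫ ar w := ObjectProperty.hom_ext _ (Over.OverMorphism.ext rfl)
        have := val_comp a v h _ (ar w) hw _ n (show T ((g ≫ w) ≫ v) by rw [Category.assoc]; exact T.downward_closed hw g)
        exact this.symm.trans (by congr 1)
    refine ⟨s, fun a' m hm => ?_, fun s' hs' => hu s' fun W w hw => hs' _ (ar w) hw⟩
    let i : a' ⟶ mem (m.hom.left ≫ a.obj.hom) (R.downward_closed a.property _) :=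
      arr (𝟙 _) ((Category.id_comp _).trans (Over.w m.hom))
    have e : m = i ≫ ar m.hom.left := ObjectProperty.hom_ext _ (Over.OverMorphism.ext (Category.id_comp _).symm)
    have hm' : T ((i ≫ ar m.hom.left).hom.left ≫ v) := e ▸ hm
    have h1 := val_comp a v h _ (ar m.hom.left) hm a' i hm'
    rw [hs m.hom.left hm]
    refine Eq.trans (Eq.trans ?_ h1.symm) ?_
    · exact ((congrArg (· ≫ _) ((yon S).map_id _)).trans (Category.id_comp _)).symm
    congr 1
  choose s hs hu using hglue
  let σ : D.Sec Z :=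
    { base := base
      sec := s
      sec_π := fun a v h => by
        refine hom_ext_of_sieve ((AlgSp.J S).pullback_stable v hT) fun W w hw => ?_
        let m : mem (w ≫ a.obj.hom) (R.downward_closed a.property w) ⟶ a := arr w rfl
        have := hs a v h _ m hw
        rw [← Category.assoc]
        erw [this]
        simp only [val, Category.assoc]
        rw [(D.cart m).w]
        erw [← Category.assoc, (x' _ hw).sec_π]
        exact (Category.id_comp _).trans (Category.comp_id _).symm
      sec_map := fun a b m v h h' => by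
        refine hom_ext_of_sieve ((AlgSp.J S).pullback_stable (m.hom.left ≫ v) hT) fun W w hw => ?_
        let n : mem (w ≫ a.obj.hom) (R.downward_closed a.property w) ⟶ a := arr w rfl
        have hw' : T (n.hom.left ≫ m.hom.left ≫ v) := hw
        have hnm : T ((n ≫ m).hom.left ≫ v) := show T ((w ≫ m.hom.left) ≫ v) by rw [Category.assoc]; exact hw
        have e1 := hs b v h _ (n ≫ m) hnm
        have e2 := hs a (m.hom.left ≫ v) h' _ n hw'
        change (yon S).map n.hom.left ≫ (yon S).map m.hom.left ≫ s b v h =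
          (yon S).map n.hom.left ≫ s a (m.hom.left ≫ v) h' ≫ D.map m
        rw [← Category.assoc, ← Category.assoc ((yon S).map n.hom.left), e2, ← Functor.map_comp]
        refine e1.trans ?_
        simp only [val, D.map_comp, Category.assoc]
        congr 1 }
  refine ⟨σ, fun W w hw => ?_, fun τ hτ => ?_⟩
  · refine Sec.ext' (hb w hw).symm fun a v h h' => ?_
    change s a (v ≫ w) _ = (x' w hw).sec a v h'
    have hm : T ((𝟙 a : a ⟶ a).hom.left ≫ v ≫ w) := by simpa using T.downward_closed hw v
    have := hs a (v ≫ w) (by rw [Category.assoc]; exact h) a (𝟙 a) hm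
    simp only [val] at this
    rw [D.map_id, Category.comp_id] at this
    refine Eq.trans ?_ (this.trans ?_)
    · exact ((congrArg (· ≫ _) ((yon S).map_id _)).trans (Category.id_comp _)).symm
    · have e : x' ((𝟙 a : a ⟶ a).hom.left ≫ v ≫ w) hm = (x' w hw).restr v := by
        rw [← hxc v w hw]; congr 1
      refine (Sec.congr' e _ _ (by change _ ≫ v ≫ _ = _; rw [Category.id_comp]; exact h')).trans ?_
      exact (x' w hw).congr (Category.id_comp v) _ _
  · have hbτ : τ.base = base := (yon S).map_injective (hom_ext_of_sieve hT fun W w hw => by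
      rw [← Functor.map_comp, ← Functor.map_comp]
      exact congrArg _ ((congrArg (fun (r : D.Sec W) => r.base) (hτ w hw)).trans (hb w hw)))
    refine Sec.ext' hbτ fun a v h h' => hu a v h' _ fun a' m hm => ?_
    rw [τ.sec_map a' a m v h (by rw [Category.assoc, h]; exact Over.w m.hom)]
    simp only [val]
    congr 1
    refine Eq.trans ?_ (Sec.congr' (hτ _ hm) (𝟙 a'.obj.left) (by
      change _ ≫ (m.hom.left ≫ v) ≫ τ.base = _
      rw [Category.id_comp, Category.assoc, h]; exact Over.w m.hom) _)
    exact τ.congr (Category.id_comp _).symm _ _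

/-- The descended sheaf. -/
def sh : Sp S := ⟨D.psh, D.isSheaf⟩

/-- Its map to the base. -/
def shHom : D.sh ⟶ (yon S).obj U :=
  ObjectProperty.homMk { app := fun Z => ↾fun σ => ⟨(show D.Sec Z.unop from σ).base⟩ }

/-- The family of sections attached to a point of one of the sheaves. -/
noncomputable def ofPt (a : (Stk.sieveCat R).obj) {Y : Over S} (x : (yon S).obj Y ⟶ D.obj a) : D.Sec Y where
  base := (yon S).preimage (x ≫ D.π a) ≫ a.obj.hom
  sec b v h := (D.cart (arr (b := a) (v ≫ (yon S).preimage (x ≫ D.π a))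
    ((Category.assoc _ _ _).trans h))).lift ((yon S).map v ≫ x) (𝟙 _) (by
      rw [Category.id_comp, Category.assoc]
      simp only [arr, ObjectProperty.homMk_hom, Over.homMk_left, Functor.map_comp, Functor.map_preimage])
  sec_π b v h := IsPullback.lift_snd _ _ _ _
  sec_map b c m v h h' := by
    let A := arr (b := a) (v ≫ (yon S).preimage (x ≫ D.π a)) ((Category.assoc _ _ _).trans h)
    apply (D.cart A).hom_ext
    · rw [Category.assoc, IsPullback.lift_fst, Category.assoc, ← D.map_comp]
      have e : arr (b := a) ((m.hom.left ≫ v) ≫ (yon S).preimage (x ≫ D.π a))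
          ((Category.assoc _ _ _).trans h') = m ≫ A :=
        ObjectProperty.hom_ext _ (Over.OverMorphism.ext (Category.assoc _ _ _))
      rw [← Category.assoc, ← Functor.map_comp, ← e, IsPullback.lift_fst]
    · rw [Category.assoc, IsPullback.lift_snd, Category.assoc, (D.cart m).w, ← Category.assoc (IsPullback.lift _ _ _ _),
        IsPullback.lift_snd]
      exact (Category.comp_id _).trans (Category.id_comp _).symm

theorem ofPt_base (a : (Stk.sieveCat R).obj) {Y : Over S} (x : (yon S).obj Y ⟶ D.obj a) :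
    (yon S).map (D.ofPt a x).base = x ≫ D.π a ≫ (yon S).map a.obj.hom := by
  rw [← Category.assoc]
  exact ((yon S).map_comp _ _).trans (congrArg (· ≫ _) ((yon S).map_preimage _))

theorem ofPt_sec_map (a : (Stk.sieveCat R).obj) {Y : Over S} (x : (yon S).obj Y ⟶ D.obj a)
    (b : (Stk.sieveCat R).obj) (v : b.obj.left ⟶ Y) (h : v ≫ (D.ofPt a x).base = b.obj.hom) (m : b ⟶ a)
    (hm : (yon S).map m.hom.left = (yon S).map v ≫ x ≫ D.π a) :
    (D.ofPt a x).sec b v h ≫ D.map m = (yon S).map v ≫ x := by
  obtain rfl : m = arr (b := a) (v ≫ (yon S).preimage (x ≫ D.π a)) ((Category.assoc _ _ _).trans h) :=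
    arr_ext ((yon S).map_injective (by
      rw [hm]; simp only [arr, ObjectProperty.homMk_hom, Over.homMk_left, Functor.map_comp, Functor.map_preimage]))
  exact IsPullback.lift_fst _ _ _ _

/-- The point of a sheaf attached to a family of sections and a map to that member of the sieve. -/
noncomputable def toPt (a : (Stk.sieveCat R).obj) {Y : Over S} (σ : D.Sec Y) (y : Y ⟶ a.obj.left)
    (hy : y ≫ a.obj.hom = σ.base) : (yon S).obj Y ⟶ D.obj a :=
  σ.sec (mem σ.base (hy ▸ R.downward_closed a.property y)) (𝟙 Y) (Category.id_comp _) ≫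
    D.map (arr (a := mem σ.base (hy ▸ R.downward_closed a.property y)) y hy)

theorem toPt_π (a : (Stk.sieveCat R).obj) {Y : Over S} (σ : D.Sec Y) (y : Y ⟶ a.obj.left)
    (hy : y ≫ a.obj.hom = σ.base) : D.toPt a σ y hy ≫ D.π a = (yon S).map y := by
  rw [toPt, Category.assoc, (D.cart _).w, ← Category.assoc]
  erw [σ.sec_π]
  exact Category.id_comp _

theorem toPt_ofPt (a : (Stk.sieveCat R).obj) {Y : Over S} (x : (yon S).obj Y ⟶ D.obj a) :
    D.toPt a (D.ofPt a x) ((yon S).preimage (x ≫ D.π a)) rfl = x := by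
  refine (D.ofPt_sec_map a x _ _ _ _ ?_).trans (((congrArg (· ≫ x) ((yon S).map_id _))).trans (Category.id_comp x))
  refine ((yon S).map_preimage _).trans ?_
  exact ((congrArg (· ≫ _) ((yon S).map_id _)).trans (Category.id_comp _)).symm

theorem ofPt_toPt (a : (Stk.sieveCat R).obj) {Y : Over S} (σ : D.Sec Y) (y : Y ⟶ a.obj.left)
    (hy : y ≫ a.obj.hom = σ.base) : D.ofPt a (D.toPt a σ y hy) = σ := by
  have hpre : (yon S).preimage (D.toPt a σ y hy ≫ D.π a) = y :=
    (yon S).map_injective (by rw [(yon S).map_preimage, toPt_π])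
  refine Sec.ext' ?_ fun b v h h' => ?_
  · change (yon S).preimage _ ≫ _ = _
    rw [hpre, hy]
  · apply IsPullback.hom_ext (D.cart (arr (b := a) (v ≫ (yon S).preimage (D.toPt a σ y hy ≫ D.π a))
      ((Category.assoc _ _ _).trans h)))
    · simp only [ofPt, IsPullback.lift_fst]
      let n : b ⟶ mem σ.base (hy ▸ R.downward_closed a.property y) := arr v h'
      have e : arr (b := a) (v ≫ (yon S).preimage (D.toPt a σ y hy ≫ D.π a))
          ((Category.assoc _ _ _).trans h) = n ≫ arr y hy :=
        arr_ext (by simp [n, arr, hpre]; rfl)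
      rw [e, D.map_comp, toPt, ← Category.assoc, ← Category.assoc]
      congr 1
      refine (σ.sec_map b _ n (𝟙 Y) (Category.id_comp _) (by change (v ≫ 𝟙 Y) ≫ σ.base = _; rw [Category.comp_id]; exact h')).trans ?_
      congr 1
    · simp only [ofPt, IsPullback.lift_snd]
      rw [σ.sec_π]

theorem ofPt_restr (a : (Stk.sieveCat R).obj) {Y Y' : Over S} (g : Y' ⟶ Y) (x : (yon S).obj Y ⟶ D.obj a) :
    D.ofPt a ((yon S).map g ≫ x) = (D.ofPt a x).restr g := by
  have hb : (D.ofPt a ((yon S).map g ≫ x)).base = g ≫ (D.ofPt a x).base :=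
    (yon S).map_injective (by rw [Functor.map_comp, ofPt_base, ofPt_base, Category.assoc])
  refine Sec.ext' hb fun b v h h' => ?_
  let m : b ⟶ a := arr (v ≫ (yon S).preimage (((yon S).map g ≫ x) ≫ D.π a)) ((Category.assoc _ _ _).trans h)
  have hm : (yon S).map m.hom.left = (yon S).map v ≫ ((yon S).map g ≫ x) ≫ D.π a :=
    ((yon S).map_comp _ _).trans (congrArg (_ ≫ ·) ((yon S).map_preimage _))
  apply (D.cart m).hom_ext
  · rw [D.ofPt_sec_map a _ b v h m hm]
    refine Eq.trans ?_ (D.ofPt_sec_map a x b (v ≫ g) ((Category.assoc _ _ _).trans h') m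
      (by rw [hm, Functor.map_comp]; simp only [Category.assoc])).symm
    rw [Functor.map_comp, Category.assoc]
  · rw [(D.ofPt a _).sec_π]
    exact ((D.ofPt a x).sec_π b (v ≫ g) ((Category.assoc _ _ _).trans h')).symm

/-- The map from a sheaf to the descended sheaf. -/
noncomputable def incl (a : (Stk.sieveCat R).obj) : D.obj a ⟶ D.sh :=
  homMkYon (fun T x => (secEquiv (F := D.sh) T).symm (D.ofPt a x)) fun {T T'} g x => by
    rw [yon_map_comp_secEquiv_symm]
    exact congrArg _ (D.ofPt_restr a g x)

theorem comp_incl (a : (Stk.sieveCat R).obj) {T : Over S} (x : (yon S).obj T ⟶ D.obj a) :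
    x ≫ D.incl a = (secEquiv (F := D.sh) T).symm (D.ofPt a x) :=
  by apply comp_homMkYon; exact fun g y => by rw [yon_map_comp_secEquiv_symm]; exact congrArg _ (D.ofPt_restr a g y)

theorem comp_shHom {T : Over S} (σ : D.Sec T) :
    (secEquiv (F := D.sh) T).symm σ ≫ D.shHom = (yon S).map σ.base := by
  apply (secEquiv T).injective
  rw [secEquiv_comp, Equiv.apply_symm_apply]
  exact congrArg ULift.up (Category.id_comp _).symm

@[reassoc]
theorem incl_shHom (a : (Stk.sieveCat R).obj) : D.incl a ≫ D.shHom = D.π a ≫ (yon S).map a.obj.hom :=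
  Groth.Agent.Lib.AlgSpace.hom_ext fun T x => by
    rw [← Category.assoc, comp_incl, comp_shHom, ofPt_base]

/-- The base change of the descended sheaf to a member of the sieve is the sheaf over it. -/
theorem isPullback_incl (a : (Stk.sieveCat R).obj) :
    IsPullback (D.incl a) (D.π a) D.shHom ((yon S).map a.obj.hom) := by
  refine isPullback_of_yon (D.incl_shHom a) (fun T c c' h₁ h₂ => ?_) fun T x y h => ?_
  · rw [comp_incl, comp_incl] at h₁
    have e := (secEquiv (F := D.sh) T).symm.injective h₁
    rw [← D.toPt_ofPt a c, ← D.toPt_ofPt a c']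
    have e2 : (yon S).preimage (c ≫ D.π a) = (yon S).preimage (c' ≫ D.π a) := by rw [h₂]
    congr 1
  · let σ : D.Sec T := secEquiv (F := D.sh) T x
    have hy : (yon S).preimage y ≫ a.obj.hom = σ.base := (yon S).map_injective (by
      rw [Functor.map_comp, (yon S).map_preimage, ← D.comp_shHom]
      simp only [σ, Equiv.symm_apply_apply, h])
    refine ⟨D.toPt a σ _ hy, ?_, ?_⟩
    · rw [comp_incl, ofPt_toPt]
      exact Equiv.symm_apply_apply _ _
    · rw [toPt_π, (yon S).map_preimage]

/-- The inclusions are compatible with the transition maps. -/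
@[reassoc]
theorem map_incl {a b : (Stk.sieveCat R).obj} (m : a ⟶ b) : D.map m ≫ D.incl b = D.incl a := by
  refine Groth.Agent.Lib.AlgSpace.hom_ext fun T x => ?_
  rw [← Category.assoc, comp_incl, comp_incl]
  congr 1
  have hbase : (D.ofPt b (x ≫ D.map m)).base = (D.ofPt a x).base := (yon S).map_injective (by
    rw [ofPt_base, ofPt_base, Category.assoc, reassoc_of% (D.cart m).w, ← Functor.map_comp, Over.w m.hom])
  refine Sec.ext' hbase fun c v h h' => ?_
  let n : c ⟶ a := arr (v ≫ (yon S).preimage (x ≫ D.π a)) ((Category.assoc _ _ _).trans h')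
  have hn : (yon S).map n.hom.left = (yon S).map v ≫ x ≫ D.π a :=
    ((yon S).map_comp _ _).trans (congrArg (_ ≫ ·) ((yon S).map_preimage _))
  apply (D.cart (n ≫ m)).hom_ext
  · rw [D.ofPt_sec_map b _ c v h (n ≫ m) (by
        change (yon S).map (n.hom.left ≫ m.hom.left) = _
        rw [Functor.map_comp, hn, Category.assoc, Category.assoc, Category.assoc, (D.cart m).w]),
      D.map_comp, ← Category.assoc ((D.ofPt a x).sec c v h'), D.ofPt_sec_map a x c v h' n hn, Category.assoc]
  · rw [(D.ofPt b _).sec_π, (D.ofPt a x).sec_π]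

end Dat

end Groth.Agent.Lib.SpQuot
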