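import Groth.Agent.Lib.SpQuot.Cat
import Groth.Agent.Lib.SpQuot.Descended

/-!
# The quotient category with sheaf torsors is an fppf stack
-/

set_option autoImplicit false
set_option backward.isDefEq.respectTransparency false
set_option backward.isDefEq.respectTransparency.types false

universe u

open CategoryTheory CategoryTheory.Limits MonoidalCategory CartesianMonoidalCategory MonObj GrpObj AlgebraicGeometry Opposite

namespace Groth.Agent.Lib.SpQuot

open AlgSp (Sp yon GAction)
open AlgSt (SpQuotObj SpQuotSt bHom HasSecLoc)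

variable {S : Scheme.{u}} {B : Sp S} {G X : Over B} [GrpObj G] {aX : GAction G X}
  {U : Over S} {R : Sieve U} (H : Stk.sieveCat R ⥤ᵇ SpQuotSt Scheme.fppfPrecoverage G aX)

theorem base_eq (a : (Stk.sieveCat R).obj) : (H.obj a).base = a.obj.left := H.w_obj a

theorem map_base {a b : (Stk.sieveCat R).obj} (m : a ⟶ b) :
    (H.map m).base = eqToHom (base_eq H a) ≫ m.hom.left ≫ eqToHom (base_eq H b).symm :=
  CategoryTheory.Functor.congr_hom H.w m

/-- The map of the torsor over a member to that member. -/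
noncomputable def proj (a : (Stk.sieveCat R).obj) : (H.obj a).P.left ⟶ (yon S).obj a.obj.left :=
  (H.obj a).π.left ≫ (yon S).map (eqToHom (base_eq H a))

theorem isPullback_map {a b : (Stk.sieveCat R).obj} (m : a ⟶ b) :
    IsPullback (H.map m).top.left (proj H a) (proj H b) ((yon S).map m.hom.left) := by
  refine ((H.map m).cart.map (Over.forget B)).of_iso (Iso.refl _) (Iso.refl _)
    ((yon S).mapIso (eqToIso (base_eq H a))) ((yon S).mapIso (eqToIso (base_eq H b))) (by simp)
    (by simp [proj]) (by simp [proj]) ?_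
  simp only [Over.forget_map, Over.homMk_left, Functor.mapIso_hom, eqToIso.hom, map_base]
  rw [← Functor.map_comp, ← Functor.map_comp, Category.assoc, Category.assoc, eqToHom_trans, eqToHom_refl,
    Category.comp_id]

/-- The descent datum of sheaves of a functor on the sieve. -/
noncomputable def dat : Dat R where
  obj a := (H.obj a).P.left
  π := proj H
  map m := (H.map m).top.left
  cart := isPullback_map H
  map_id a := by rw [CategoryTheory.Functor.map_id]; rfl
  map_comp m n := by rw [Functor.map_comp]; rfl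

variable (hR : R ∈ AlgSp.J S U)

/-- The section of `B` on a member. -/
noncomputable def bb (a : (Stk.sieveCat R).obj) : (yon S).obj a.obj.left ⟶ B :=
  (yon S).map (eqToHom (base_eq H a).symm) ≫ (H.obj a).b

theorem map_bb {a b : (Stk.sieveCat R).obj} (m : a ⟶ b) : (yon S).map m.hom.left ≫ bb H b = bb H a := by
  have h := (H.map m).wb
  rw [map_base] at h
  simp only [bb, ← h, Functor.map_comp, Category.assoc]
  rw [← (yon S).map_comp_assoc (eqToHom (base_eq H a).symm) (eqToHom (base_eq H a)), eqToHom_trans, eqToHom_refl,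
    CategoryTheory.Functor.map_id, Category.id_comp]

include hR

theorem exists_b : ∃ b : (yon S).obj U ⟶ B, ∀ a, (yon S).map a.obj.hom ≫ b = bb H a := by
  obtain ⟨b, hb, -⟩ := exists_glue hR (fun V f hf => bb H (mem f hf)) fun V V' g f hf =>
    map_bb H (arr g rfl : mem (g ≫ f) (R.downward_closed hf g) ⟶ mem f hf)
  refine ⟨b, fun a => ?_⟩
  rw [hb _ a.property]
  rfl

/-- The glued section of `B`. -/
noncomputable def b : (yon S).obj U ⟶ B := (exists_b H hR).choose

theorem b_spec (a : (Stk.sieveCat R).obj) : (yon S).map a.obj.hom ≫ b H hR = bb H a :=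
  (exists_b H hR).choose_spec a

/-- The glued torsor. -/
noncomputable def W : Over B := Over.mk ((dat H).shHom ≫ b H hR)

/-- The inclusion of the torsor over a member. -/
noncomputable def incl (a : (Stk.sieveCat R).obj) : (H.obj a).P ⟶ W H hR :=
  Over.homMk ((dat H).incl a) (by
    change (dat H).incl a ≫ (dat H).shHom ≫ b H hR = (H.obj a).P.hom
    rw [(dat H).incl_shHom_assoc, b_spec, ← Over.w (H.obj a).π]
    simp only [dat, proj, bb, Category.assoc]
    rw [← (yon S).map_comp_assoc, eqToHom_trans, eqToHom_refl, CategoryTheory.Functor.map_id, Category.id_comp]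
    rfl)

/-- The base changes of the glued torsor. -/
noncomputable def bc : Bc R (M := W H hR) (dat H).shHom where
  obj a := (H.obj a).P
  «ι» := incl H hR
  proj := proj H
  isPullback a := (dat H).isPullback_incl a

@[reassoc]
theorem map_incl {a b : (Stk.sieveCat R).obj} (m : a ⟶ b) : (H.map m).top ≫ incl H hR b = incl H hR a :=
  Over.OverMorphism.ext ((dat H).map_incl m)

theorem bc_map {a b : (Stk.sieveCat R).obj} (m : a ⟶ b) : (bc H hR).map m = (H.map m).top := by
  refine (bc H hR).hom_ext' ?_ ?_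
  · rw [Bc.map_ι]; exact (map_incl H hR m).symm
  · rw [Bc.map_proj]; exact (isPullback_map H m).w.symm

/-- The projection of the glued torsor. -/
noncomputable def π : W H hR ⟶ Over.mk (b H hR) := Over.homMk (dat H).shHom rfl

theorem exists_act : ∃ act : G ⊗ W H hR ⟶ W H hR,
    ∀ a, (G ◁ incl H hR a) ≫ act = (H.obj a).act.act ≫ incl H hR a :=
  ((bc H hR).whisker G).exists_desc hR (fun a => (H.obj a).act.act ≫ incl H hR a) fun a a' m => by
    rw [Bc.whisker_map, bc_map, ← reassoc_of% (H.map m).eqv, map_incl]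

theorem exists_action : ∃ act : GAction G (W H hR),
    ∀ a, (G ◁ incl H hR a) ≫ act.act = (H.obj a).act.act ≫ incl H hR a := by
  obtain ⟨act, h⟩ := exists_act H hR
  refine ⟨⟨act, ((bc H hR).whisker (𝟙_ (Over B))).ext hR fun a => ?_,
    ((bc H hR).whisker (G ⊗ G)).ext hR fun a => ?_⟩, h⟩
  · change (𝟙_ (Over B) ◁ incl H hR a) ≫ (η[G] ▷ W H hR) ≫ act = (𝟙_ (Over B) ◁ incl H hR a) ≫ (λ_ _).hom
    rw [whisker_exchange_assoc, h, reassoc_of% (H.obj a).act.one_act]
    exact (leftUnitor_naturality (incl H hR a)).symm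
  · change ((G ⊗ G) ◁ incl H hR a) ≫ (μ[G] ▷ W H hR) ≫ act =
      ((G ⊗ G) ◁ incl H hR a) ≫ (α_ G G (W H hR)).hom ≫ (G ◁ act) ≫ act
    rw [whisker_exchange_assoc, h, reassoc_of% (H.obj a).act.mul_act, associator_naturality_right_assoc,
      ← whiskerLeft_comp_assoc, h, whiskerLeft_comp_assoc, h]

/-- The glued action. -/
noncomputable def act : GAction G (W H hR) := (exists_action H hR).choose

theorem incl_act (a : (Stk.sieveCat R).obj) :
    (G ◁ incl H hR a) ≫ (act H hR).act = (H.obj a).act.act ≫ incl H hR a :=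
  (exists_action H hR).choose_spec a

theorem act_π : (act H hR).act ≫ π H hR = snd G (W H hR) ≫ π H hR := by
  refine ((bc H hR).whisker G).ext hR fun a => ?_
  change (G ◁ incl H hR a) ≫ _ = (G ◁ incl H hR a) ≫ _
  rw [reassoc_of% (incl_act H hR a), whiskerLeft_snd_assoc]
  apply Over.OverMorphism.ext
  change (H.obj a).act.act.left ≫ (dat H).incl a ≫ (dat H).shHom =
    (snd G (H.obj a).P).left ≫ (dat H).incl a ≫ (dat H).shHom
  rw [(dat H).incl_shHom]
  have e : (H.obj a).act.act.left ≫ (H.obj a).π.left = (snd G (H.obj a).P).left ≫ (H.obj a).π.left :=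
    congr($((H.obj a).cart.w).left)
  simp only [dat, proj, Category.assoc]
  rw [reassoc_of% e]

theorem exists_unique_lift {M : Over B} (x y : M ⟶ W H hR) (e : x ≫ π H hR = y ≫ π H hR) :
    ∃! m : M ⟶ G ⊗ W H hR, m ≫ (act H hR).act = x ∧ m ≫ snd G (W H hR) = y := by
  let β := Bc.ofPullback (B := B) R (M := M) (x.left ≫ (dat H).shHom)
  have ey : y.left ≫ (dat H).shHom = x.left ≫ (dat H).shHom := congr($(e).left).symm
  have hl : ∀ (a : (Stk.sieveCat R).obj) (z : M ⟶ W H hR), z.left ≫ (dat H).shHom = x.left ≫ (dat H).shHom →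
      ∃ z' : β.obj a ⟶ (H.obj a).P, z' ≫ incl H hR a = β.ι a ≫ z ∧ z'.left ≫ proj H a = β.proj a := by
    intro a z hz
    let l := ((bc H hR).isPullback a).lift ((β.ι a).left ≫ z.left) (β.proj a)
      (by rw [Category.assoc, hz]; exact (β.isPullback a).w)
    have hl1 : l ≫ (incl H hR a).left = (β.ι a).left ≫ z.left := ((bc H hR).isPullback a).lift_fst _ _ _
    refine ⟨Over.homMk l ?_, Over.OverMorphism.ext hl1, ((bc H hR).isPullback a).lift_snd _ _ _⟩
    refine Eq.trans ?_ (Over.w (β.ι a ≫ z))
    rw [← Over.w (incl H hR a), ← Category.assoc]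
    exact congrArg (· ≫ _) hl1
  choose x' hx' hx'' using fun a => hl a x rfl
  choose y' hy' hy'' using fun a => hl a y ey
  have hπ : ∀ a, x' a ≫ (H.obj a).π = y' a ≫ (H.obj a).π := fun a => Over.OverMorphism.ext (by
    have := (hx'' a).trans (hy'' a).symm
    simp only [proj, ← Category.assoc] at this
    exact (cancel_mono ((yon S).map (eqToHom (base_eq H a)))).1 this)
  let ma := fun a => (H.obj a).cart.lift (x' a) (y' a) (hπ a) ≫ (G ◁ incl H hR a)
  have hmap : ∀ ⦃a b : (Stk.sieveCat R).obj⦄ (m : a ⟶ b),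
      β.map m ≫ x' b = x' a ≫ (H.map m).top ∧ β.map m ≫ y' b = y' a ≫ (H.map m).top := by
    intro a b m
    refine ⟨(bc H hR).hom_ext' ?_ ?_, (bc H hR).hom_ext' ?_ ?_⟩
    · simp only [bc, Category.assoc, map_incl, hx']
      rw [Bc.map_ι_assoc]
    · simp only [bc, Over.comp_left, Category.assoc, (isPullback_map H m).w]
      rw [hx'', reassoc_of% (hx'' a), Bc.map_proj]
    · simp only [bc, Category.assoc, map_incl, hy']
      rw [Bc.map_ι_assoc]
    · simp only [bc, Over.comp_left, Category.assoc, (isPullback_map H m).w]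
      rw [hy'', reassoc_of% (hy'' a), Bc.map_proj]
  obtain ⟨m, hm⟩ := β.exists_desc hR ma fun a b k => by
    have e1 : β.map k ≫ (H.obj b).cart.lift (x' b) (y' b) (hπ b) =
        (H.obj a).cart.lift (x' a) (y' a) (hπ a) ≫ (G ◁ (H.map k).top) := by
      apply (H.obj b).cart.hom_ext
      · rw [Category.assoc, Category.assoc, IsPullback.lift_fst, ← (H.map k).eqv, IsPullback.lift_fst_assoc]
        exact (hmap k).1
      · rw [Category.assoc, Category.assoc, IsPullback.lift_snd, whiskerLeft_snd, IsPullback.lift_snd_assoc]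
        exact (hmap k).2
    simp only [ma]
    rw [← Category.assoc, e1, Category.assoc, ← MonoidalCategory.whiskerLeft_comp, map_incl]
  have h1 : m ≫ (act H hR).act = x := β.ext hR fun a => by
    rw [← Category.assoc, hm]
    simp only [ma, Category.assoc]
    rw [incl_act, IsPullback.lift_fst_assoc, hx']
  have h2 : m ≫ snd G (W H hR) = y := β.ext hR fun a => by
    rw [← Category.assoc, hm]
    simp only [ma, Category.assoc]
    rw [whiskerLeft_snd, IsPullback.lift_snd_assoc, hy']
  refine ⟨m, ⟨h1, h2⟩, fun m' h' => β.ext hR fun a => ?_⟩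
  obtain ⟨n1, n2⟩ := h'
  have sqB := ((bc H hR).whisker G).isPullback a
  let n₀ := sqB.lift ((β.ι a).left ≫ m'.left) (β.proj a) (by
    rw [Category.assoc]
    refine Eq.trans ?_ (β.isPullback a).w
    congr 1
    exact (Category.assoc _ _ _).symm.trans
      ((congrArg (· ≫ (dat H).shHom) congr($(n2).left)).trans ey))
  have hn1 : n₀ ≫ (G ◁ incl H hR a).left = (β.ι a).left ≫ m'.left := sqB.lift_fst _ _ _
  have hn2 : n₀ ≫ (snd G (H.obj a).P).left ≫ proj H a = β.proj a := sqB.lift_snd _ _ _
  let n : β.obj a ⟶ G ⊗ (H.obj a).P := Over.homMk n₀ (by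
    refine Eq.trans ?_ (Over.w (β.ι a ≫ m'))
    rw [← Over.w (G ◁ incl H hR a), ← Category.assoc]
    exact congrArg (· ≫ _) hn1)
  have hn : n ≫ (G ◁ incl H hR a) = β.ι a ≫ m' := Over.OverMorphism.ext hn1
  have hlift : n = (H.obj a).cart.lift (x' a) (y' a) (hπ a) := by
    apply (H.obj a).cart.hom_ext
    · rw [IsPullback.lift_fst]
      refine (bc H hR).hom_ext' (a := a) ?_ ?_
      · change (n ≫ (H.obj a).act.act) ≫ incl H hR a = x' a ≫ incl H hR a
        rw [hx', Category.assoc, ← incl_act, reassoc_of% hn, n1]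
      · change (n₀ ≫ (H.obj a).act.act.left) ≫ proj H a = (x' a).left ≫ proj H a
        rw [hx'', Category.assoc]
        refine Eq.trans ?_ hn2
        congr 1
        have e : (H.obj a).act.act.left ≫ (H.obj a).π.left = (snd G (H.obj a).P).left ≫ (H.obj a).π.left :=
          congr($((H.obj a).cart.w).left)
        simp only [proj]
        rw [reassoc_of% e]
    · rw [IsPullback.lift_snd]
      refine (bc H hR).hom_ext' (a := a) ?_ ?_
      · change (n ≫ snd G (H.obj a).P) ≫ incl H hR a = y' a ≫ incl H hR a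
        rw [hy', Category.assoc, ← whiskerLeft_snd G (incl H hR a), reassoc_of% hn, n2]
      · change (n₀ ≫ (snd G (H.obj a).P).left) ≫ proj H a = (y' a).left ≫ proj H a
        rw [hy'', Category.assoc, hn2]
  rw [hm, ← hn, hlift]

theorem isPullback_act : IsPullback (act H hR).act (snd G (W H hR)) (π H hR) (π H hR) :=
  IsPullback.of_isLimit' ⟨act_π H hR⟩ (PullbackCone.IsLimit.mk _
    (fun c => (exists_unique_lift H hR c.fst c.snd c.condition).choose)
    (fun c => (exists_unique_lift H hR c.fst c.snd c.condition).choose_spec.1.1)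
    (fun c => (exists_unique_lift H hR c.fst c.snd c.condition).choose_spec.1.2)
    fun c m h1 h2 => (exists_unique_lift H hR c.fst c.snd c.condition).choose_spec.2 m ⟨h1, h2⟩)

theorem exists_φ : ∃ φ : W H hR ⟶ X, ∀ a, incl H hR a ≫ φ = (H.obj a).φ :=
  (bc H hR).exists_desc hR (fun a => (H.obj a).φ) fun a a' m => by rw [bc_map]; exact (H.map m).wφ

/-- The glued map to `X`. -/
noncomputable def φ : W H hR ⟶ X := (exists_φ H hR).choose

theorem incl_φ (a : (Stk.sieveCat R).obj) : incl H hR a ≫ φ H hR = (H.obj a).φ := (exists_φ H hR).choose_spec a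

theorem act_φ : (act H hR).act ≫ φ H hR = (G ◁ φ H hR) ≫ aX.act :=
  ((bc H hR).whisker G).ext hR fun a => by
    change (G ◁ incl H hR a) ≫ _ = (G ◁ incl H hR a) ≫ _
    rw [← whiskerLeft_comp_assoc, reassoc_of% (incl_act H hR a), incl_φ]
    exact (H.obj a).eqv

theorem hasSecLoc : HasSecLoc Scheme.fppfPrecoverage (π H hR).left := by
  have hR' := hR
  rw [AlgSp.J_eq, GrothendieckTopology.mem_over_iff] at hR'
  obtain ⟨R₀, hR₀, hle⟩ :=
    (Precoverage.mem_toGrothendieck_iff_of_isStableUnderComposition (J := Scheme.fppfPrecoverage)).1 hR'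
  obtain ⟨J, Z, g, rfl⟩ := R₀.exists_eq_ofArrows
  let a (i : J) : (Stk.sieveCat R).obj := mem (Over.homMk (g i) : Over.mk (g i ≫ U.hom) ⟶ U)
    ((Sieve.overEquiv_iff R (g i)).1 (hle _ _ (Presieve.ofArrows.mk i)))
  have hl : ∀ i, HasSecLoc Scheme.fppfPrecoverage (proj H (a i)) := fun i => by
    refine hasSecLoc_of_isPullback (eqToHom (base_eq H (a i)).symm) (t := 𝟙 _) ?_ (H.obj (a i)).loc
    refine IsPullback.of_horiz_isIso ⟨?_⟩
    rw [Category.id_comp]
    simp only [proj, Category.assoc, ← Functor.map_comp, eqToHom_trans, eqToHom_refl, CategoryTheory.Functor.map_id]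
    exact (Category.comp_id _).symm
  choose Ri hRi hsec using hl
  choose Ji Yi gi hRie using fun i => (Ri i).exists_eq_ofArrows
  refine ⟨_, Precoverage.comp_mem_coverings g hR₀ gi fun i => hRie i ▸ hRi i, ?_⟩
  rintro S' k ⟨⟨i, j⟩⟩
  obtain ⟨t, ht⟩ := hsec i (gi i j) (hRie i ▸ Presieve.ofArrows.mk j)
  let e : (Over.mk ((gi i j ≫ g i) ≫ U.hom) : Over S) ⟶ Over.mk (gi i j ≫ (a i).obj.left.hom) :=
    Over.homMk (𝟙 _) (by simp [a, mem])
  refine ⟨(yon S).map e ≫ t ≫ (incl H hR (a i)).left, ?_⟩
  change ((yon S).map e ≫ t ≫ (dat H).incl (a i)) ≫ (dat H).shHom = _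
  simp only [Category.assoc]
  rw [(dat H).incl_shHom]
  change (yon S).map e ≫ t ≫ proj H (a i) ≫ (yon S).map (a i).obj.hom = _
  rw [reassoc_of% ht, ← Functor.map_comp, ← Functor.map_comp]
  exact congrArg _ (Over.OverMorphism.ext (Category.id_comp _))

/-- The glued object. -/
noncomputable def glued : SpQuotObj Scheme.fppfPrecoverage G aX where
  base := U
  b := b H hR
  P := W H hR
  act := act H hR
  π := π H hR
  cart := isPullback_act H hR
  loc := hasSecLoc H hR
  φ := φ H hR
  eqv := act_φ H hR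

/-- The morphism from the torsor over a member of the sieve to the glued object. -/
noncomputable def homObj (a : (Stk.sieveCat R).obj) : H.obj a ⟶ glued H hR where
  base := eqToHom (base_eq H a) ≫ a.obj.hom
  wb := by
    change _ ≫ b H hR = _
    rw [Functor.map_comp, Category.assoc, b_spec, bb, ← (yon S).map_comp_assoc, eqToHom_trans, eqToHom_refl,
      CategoryTheory.Functor.map_id, Category.id_comp]
  top := incl H hR a
  eqv := (incl_act H hR a).symm
  cart := by
    refine IsPullback.of_map (Over.forget B) ?_ ?_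
    · apply Over.OverMorphism.ext
      change (dat H).incl a ≫ (dat H).shHom = (H.obj a).π.left ≫ (yon S).map (eqToHom (base_eq H a) ≫ a.obj.hom)
      rw [(dat H).incl_shHom, Functor.map_comp]
      simp only [dat, proj, Category.assoc]
    refine ((dat H).isPullback_incl a).of_iso (Iso.refl _) (Iso.refl _)
      ((yon S).mapIso (eqToIso (base_eq H a).symm)) (Iso.refl _) (by simp [incl]) ?_ (by simp [π]; rfl) ?_
    · simp [dat, proj]
    · simp
  wφ := incl_φ H hR a

theorem map_homObj {a b : (Stk.sieveCat R).obj} (m : a ⟶ b) : H.map m ≫ homObj H hR b = homObj H hR a := by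
  refine SpQuotObj.hom_ext ?_ (map_incl H hR m)
  change (H.map m).base ≫ eqToHom _ ≫ b.obj.hom = eqToHom _ ≫ a.obj.hom
  rw [map_base]
  simp [Over.w m.hom]

omit hR in
/-- Descent of objects along a covering sieve. -/
theorem glueObj (hR : R ∈ AlgSp.J S U) :
    Fibred.Descent.GlueObj R (SpQuotSt Scheme.fppfPrecoverage G aX) := fun H =>
  ⟨{ pt := glued H hR
     proj := rfl
     «ι» := homObj H hR
     lifts := fun a => IsHomLift.of_fac' _ _ _ (base_eq H a) rfl
       (show eqToHom (base_eq H a) ≫ a.obj.hom = _ by simp)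
     w := fun a b m => map_homObj H hR m }⟩

omit hR in
/-- `[X/G]` with sheaf torsors is an fppf stack. -/
theorem isStack : Stk.IsStack (AlgSp.J S) (SpQuotSt Scheme.fppfPrecoverage G aX) :=
  ⟨isFibGrpd, fun _ R hR => (Fibred.Descent.isStackFor_iff (R := R) (isFibGrpd (aX := aX))).2
    ⟨sep hR, glueHom hR, glueObj hR⟩⟩

end Groth.Agent.Lib.SpQuot
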