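import Groth.Agent.Lib.SpQuot.Cat

/-!
# Trivial torsors and morphisms out of them
-/

set_option autoImplicit false
set_option backward.isDefEq.respectTransparency false
set_option backward.isDefEq.respectTransparency.types false

universe u

open CategoryTheory CategoryTheory.Limits MonoidalCategory CartesianMonoidalCategory MonObj GrpObj AlgebraicGeometry Opposite

namespace Groth.Agent.Lib.SpQuot

open AlgSp (Sp yon GAction)
open AlgSt (SpQuotObj SpQuotSt bHom HasSecLoc spLeftMul)

variable {S : Scheme.{u}} {K : Precoverage Scheme.{u}} [K.HasIsos] {B : Sp S} {G X : Over B} [GrpObj G]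
  {aX : GAction G X}

namespace Act

variable {P : Over B} (a : GAction G P)

theorem one_smul {W : Over B} (p : W ⟶ P) : lift (1 : W ⟶ G) p ≫ a.act = p := by
  have h : lift (1 : W ⟶ G) p = lift (toUnit W) p ≫ (η[G] ▷ P) := by
    rw [lift_whiskerRight, Hom.one_def]
  rw [h, Category.assoc, a.one_act, lift_leftUnitor_hom]

theorem mul_smul {W : Over B} (g h : W ⟶ G) (p : W ⟶ P) :
    lift (g * h) p ≫ a.act = lift g (lift h p ≫ a.act) ≫ a.act := by
  have e : lift (g * h) p = lift (lift g h) p ≫ (μ[G] ▷ P) := by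
    rw [lift_whiskerRight, Hom.mul_def]
  rw [e, Category.assoc, a.mul_act, lift_lift_associator_hom_assoc, lift_whiskerLeft_assoc]

end Act

theorem lift_leftMul {T W : Over B} (g h : W ⟶ G) (t : W ⟶ T) :
    lift g (lift h t) ≫ (spLeftMul G T).act = lift (g * h) t := by
  simp [spLeftMul, comp_lift, MonObj.comp_mul]

variable {T : Over S} {b : (yon S).obj T ⟶ B}

variable (K aX) in
/-- The trivial torsor with the map to `X` given by a point. -/
noncomputable def trivObj (x : Over.mk b ⟶ X) : SpQuotObj K G aX where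
  base := T
  b := b
  P := G ⊗ Over.mk b
  act := spLeftMul G _
  π := snd G _
  cart := AlgSt.isPullback_spLeftMul _
  loc := AlgSt.hasSecLoc_of_section K (snd G (Over.mk b)).left
    (lift (toUnit _ ≫ η[G]) (𝟙 (Over.mk b))).left (by rw [← Over.comp_left, lift_snd, Over.id_left]; rfl)
  φ := (G ◁ x) ≫ aX.act
  eqv := by
    have e1 : (spLeftMul G (Over.mk b)).act ≫ (G ◁ x) =
        lift (fst G (G ⊗ Over.mk b) * (snd G (G ⊗ Over.mk b) ≫ fst G (Over.mk b)))
          (snd G (G ⊗ Over.mk b) ≫ snd G (Over.mk b) ≫ x) := by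
      simp [spLeftMul, lift_whiskerLeft]
    rw [← Category.assoc, e1, Act.mul_smul]
    congr 1
    apply CartesianMonoidalCategory.hom_ext
    · simp
    · rw [lift_snd, whiskerLeft_snd, ← Category.assoc (snd G (G ⊗ Over.mk b)) (G ◁ x)]
      congr 1
      apply CartesianMonoidalCategory.hom_ext <;> simp

variable {A : SpQuotObj K G aX}

/-- The morphism from a trivial object given by a point of the torsor. -/
noncomputable def ofPoint {x : Over.mk b ⟶ X} (f : T ⟶ A.base) (wb : (yon S).map f ≫ A.b = b)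
    (s : Over.mk b ⟶ A.P) (hs : s ≫ A.π = bHom f wb) (hx : s ≫ A.φ = x) : trivObj K aX x ⟶ A where
  base := f
  wb := wb
  top := (G ◁ s) ≫ A.act.act
  eqv := by
    change (spLeftMul G (Over.mk b)).act ≫ (G ◁ s) ≫ A.act.act =
      (G ◁ ((G ◁ s) ≫ A.act.act)) ≫ A.act.act
    rw [← Category.assoc]
    have e1 : (spLeftMul G (Over.mk b)).act ≫ (G ◁ s) =
        lift (fst G (G ⊗ Over.mk b) * (snd G (G ⊗ Over.mk b) ≫ fst G (Over.mk b)))
          (snd G (G ⊗ Over.mk b) ≫ snd G (Over.mk b) ≫ s) := by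
      simp [spLeftMul, lift_whiskerLeft]
    rw [e1, Act.mul_smul]
    congr 1
    apply CartesianMonoidalCategory.hom_ext
    · simp
    · rw [lift_snd, whiskerLeft_snd, ← Category.assoc (snd G (G ⊗ Over.mk b)) (G ◁ s)]
      congr 1
      apply CartesianMonoidalCategory.hom_ext <;> simp
  cart := by
    have h := (AlgSt.isPullback_whiskerLeft' (G := G) s).paste_horiz A.cart
    rw [hs] at h
    exact h
  wφ := by
    change ((G ◁ s) ≫ A.act.act) ≫ A.φ = (G ◁ x) ≫ aX.act
    rw [Category.assoc, A.eqv, ← whiskerLeft_comp_assoc, hx]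

/-- The point of the torsor given by a morphism from a trivial object. -/
noncomputable def point {x : Over.mk b ⟶ X} (m : trivObj K aX x ⟶ A) : Over.mk b ⟶ A.P :=
  lift (1 : Over.mk b ⟶ G) (𝟙 _) ≫ m.top

theorem point_π {x : Over.mk b ⟶ X} (m : trivObj K aX x ⟶ A) : point m ≫ A.π = bHom m.base m.wb := by
  rw [point, Category.assoc, m.cart.w]
  exact (Category.assoc _ _ _).symm.trans ((congrArg (· ≫ bHom m.base m.wb) (lift_snd _ _)).trans (Category.id_comp _))

theorem point_π_left {x : Over.mk b ⟶ X} (m : trivObj K aX x ⟶ A) :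
    (point m).left ≫ A.π.left = (yon S).map m.base :=
  congr($(point_π m).left)

theorem point_φ {x : Over.mk b ⟶ X} (m : trivObj K aX x ⟶ A) : point m ≫ A.φ = x := by
  rw [point, Category.assoc, m.wφ]
  change lift _ _ ≫ (G ◁ x) ≫ aX.act = x
  rw [lift_whiskerLeft_assoc, Category.id_comp, Act.one_smul]

theorem lift_comp_top {W : Over B} {x : Over.mk b ⟶ X} (m : trivObj K aX x ⟶ A)
    (g : W ⟶ G) (t : W ⟶ Over.mk b) : lift g t ≫ m.top = lift g (t ≫ point m) ≫ A.act.act := by
  have e : lift g (lift 1 t) ≫ (spLeftMul G (Over.mk b)).act = lift g t := by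
    rw [lift_leftMul, _root_.mul_one]
  conv_lhs => rw [← e]
  rw [Category.assoc]
  erw [m.eqv]
  rw [lift_whiskerLeft_assoc, point, ← Category.assoc t, comp_lift, MonObj.comp_one, Category.comp_id]

theorem top_eq {x : Over.mk b ⟶ X} (m : trivObj K aX x ⟶ A) : m.top = (G ◁ point m) ≫ A.act.act := by
  refine (Category.id_comp _).symm.trans ?_
  change 𝟙 (G ⊗ Over.mk b) ≫ _ = _
  rw [← lift_fst_snd, lift_comp_top]
  congr 1

theorem hom_ext_of_point {x : Over.mk b ⟶ X} {m m' : trivObj K aX x ⟶ A}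
    (h : point m = point m') : m = m' := by
  refine SpQuotObj.hom_ext ((yon S).map_injective ?_) (by rw [top_eq m, top_eq m', h])
  rw [← point_π_left m, ← point_π_left m', h]

theorem point_ofPoint {x : Over.mk b ⟶ X} (f : T ⟶ A.base) (wb : (yon S).map f ≫ A.b = b)
    (s : Over.mk b ⟶ A.P) (hs : s ≫ A.π = bHom f wb) (hx : s ≫ A.φ = x) :
    point (ofPoint f wb s hs hx) = s := by
  change lift _ _ ≫ (G ◁ s) ≫ A.act.act = s
  rw [lift_whiskerLeft_assoc, Category.id_comp, Act.one_smul]

theorem point_comp {A' : SpQuotObj K G aX} {x : Over.mk b ⟶ X} (m : trivObj K aX x ⟶ A) (n : A ⟶ A') :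
    point (m ≫ n) = point m ≫ n.top := by
  simp [point]

/-- The morphism of trivial objects over a morphism of schemes. -/
noncomputable def trivMap {T' : Over S} {b' : (yon S).obj T' ⟶ B} {x : Over.mk b ⟶ X} {x' : Over.mk b' ⟶ X}
    (g : T' ⟶ T) (wb : (yon S).map g ≫ b = b') (hx : bHom g wb ≫ x = x') :
    trivObj K aX x' ⟶ trivObj K aX x where
  base := g
  wb := wb
  top := G ◁ bHom g wb
  eqv := by
    change (spLeftMul G _).act ≫ (G ◁ bHom g wb) = (G ◁ G ◁ bHom g wb) ≫ (spLeftMul G _).act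
    apply CartesianMonoidalCategory.hom_ext
    · simp [spLeftMul, comp_lift, MonObj.comp_mul]
    · simp [spLeftMul, comp_lift, MonObj.comp_mul]
  cart := AlgSt.isPullback_whiskerLeft' _
  wφ := by
    change (G ◁ bHom g wb) ≫ (G ◁ x) ≫ aX.act = (G ◁ x') ≫ aX.act
    rw [← whiskerLeft_comp_assoc, hx]

theorem point_trivMap_comp {T' : Over S} {b' : (yon S).obj T' ⟶ B} {x : Over.mk b ⟶ X} {x' : Over.mk b' ⟶ X}
    (g : T' ⟶ T) (wb : (yon S).map g ≫ b = b') (hx : bHom g wb ≫ x = x') (m : trivObj K aX x ⟶ A) :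
    point (trivMap g wb hx ≫ m) = bHom g wb ≫ point m := by
  change lift _ _ ≫ (G ◁ bHom g wb) ≫ m.top = bHom g wb ≫ lift _ _ ≫ m.top
  rw [lift_whiskerLeft_assoc, ← Category.assoc (bHom g wb), comp_lift, MonObj.comp_one, Category.id_comp,
    Category.comp_id]

/-- The canonical functor sends a point to the trivial object. -/
theorem spQuotMap_obj (a : (AlgSt.ofSp X.left).obj) :
    (AlgSt.spQuotMap K G aX).obj a = trivObj K aX (AlgSt.secOver a) := rfl

end Groth.Agent.Lib.SpQuot
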