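import Groth.Prelude.Def_AlgSt3
import Groth.Agent.Lib.SpQuot.Stack
import Groth.Agent.Lib.Bootstrap.Descent
import Groth.Agent.Lib.AlgStack.BasedBasic

/-!
# Sheaf torsors under group algebraic spaces are algebraic spaces
-/

set_option autoImplicit false
set_option backward.isDefEq.respectTransparency false
set_option backward.isDefEq.respectTransparency.types false

universe u

open CategoryTheory CategoryTheory.Limits MonoidalCategory CartesianMonoidalCategory MonObj GrpObj AlgebraicGeometry Opposite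

namespace Groth.Agent.Lib.SpQuot

open AlgSp (Sp yon GAction IsAlgSpace)
open AlgSt (SpQuotObj SpQuotSt bHom HasSecLoc)
open Groth.Agent.Lib.AlgSpace

variable {S : Scheme.{u}} {K : Precoverage Scheme.{u}} {B : Sp S} {G X : Over B} [GrpObj G]
  {aX : GAction G X}

omit [GrpObj G] in
/-- A product over a space of spaces is a space. -/
theorem isAlgSpace_tensor (hB : IsAlgSpace B) (hG : IsAlgSpace G.left) (M : Over B) (hM : IsAlgSpace M.left) :
    IsAlgSpace (G ⊗ M).left :=
  isAlgSpace_of_isPullback ((AlgSt.isPullback_fst_snd' G M).map (Over.forget B)) hB.diag hG hM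

/-- A section over `T'` trivialises the torsor over `T'`. -/
theorem isPullback_trivialisation (A : SpQuotObj K G aX) {T' : Over S} (f : T' ⟶ A.base)
    (s : (yon S).obj T' ⟶ A.P.left) (hs : s ≫ A.π.left = (yon S).map f) :
    ∃ t : (G ⊗ Over.mk ((yon S).map f ≫ A.b)).left ⟶ A.P.left,
      IsPullback t (snd G (Over.mk ((yon S).map f ≫ A.b))).left A.π.left ((yon S).map f) := by
  let s' : Over.mk ((yon S).map f ≫ A.b) ⟶ A.P := Over.homMk s (by
    rw [← Over.w A.π, ← Category.assoc, hs]; rfl)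
  refine ⟨((G ◁ s') ≫ A.act.act).left, ?_⟩
  have h := ((AlgSt.isPullback_whiskerLeft' (G := G) s').paste_horiz A.cart).map (Over.forget B)
  have e : (s' ≫ A.π).left = (yon S).map f := hs
  simpa only [Over.forget_map, e] using h

/-- The local sections, indexed by the points of the base. -/
theorem exists_sections (A : SpQuotObj Scheme.fppfPrecoverage G aX) :
    ∃ (T' : ↥A.base.left → Over S) (f : ∀ x, T' x ⟶ A.base) (s : ∀ x, (yon S).obj (T' x) ⟶ A.P.left),
      (∀ x, Flat (f x).left ∧ LocallyOfFinitePresentation (f x).left) ∧ (∀ x, x ∈ Set.range (f x).left) ∧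
      ∀ x, s x ≫ A.π.left = (yon S).map (f x) := by
  obtain ⟨R, hR, hs⟩ := A.loc
  obtain ⟨J, Z, g, rfl⟩ := R.exists_eq_ofArrows
  obtain ⟨hsurj, hflfp⟩ := (Scheme.ofArrows_mem_precoverage_iff _).1 hR
  choose k hk using hsurj
  choose s hs' using fun j => hs (g j) (Presieve.ofArrows.mk j)
  exact ⟨fun x => Over.mk (g (k x) ≫ A.base.hom), fun x => Over.homMk (g (k x)), fun x => s (k x),
    fun x => hflfp (k x), hk, fun x => hs' (k x)⟩

theorem isFppfCover_yon {T : Over S} {κ : Type u} (T' : κ → Over S) (f : ∀ i, T' i ⟶ T)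
    (hf : ∀ i, Flat (f i).left ∧ LocallyOfFinitePresentation (f i).left)
    (hsurj : ∀ x : ↥T.left, ∃ i, x ∈ Set.range (f i).left) :
    AlgSp.IsFppfCover (fun i => (yon S).obj (T' i)) (fun i => (yon S).map (f i)) := by
  refine ⟨fun i => ⟨?_, ?_⟩, fun x => ?_⟩
  · exact Groth.Agent.Lib.AlgSpMor.LocP.locP_of_repWith Groth.Agent.Lib.SourceDescent.Scheme.flat
      ((AlgSp.repWith_yon_map_iff _ (f i)).2 (hf i).1)
  · exact Groth.Agent.Lib.AlgSpMor.LocP.locP_of_repWith
      Groth.Agent.Lib.SourceDescent.Scheme.locallyOfFinitePresentation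
      ((AlgSp.repWith_yon_map_iff _ (f i)).2 (hf i).2)
  · obtain ⟨z, rfl⟩ := (AlgSp.Points.schemeHomeo T).surjective x
    obtain ⟨i, y, hy⟩ := hsurj z
    refine ⟨i, AlgSp.Points.schemeHomeo (T' i) y, ?_⟩
    rw [AlgSp.Points.map_yon_map_eq]
    simp [← hy]

/-- Torsors under a group space are spaces. -/
theorem isAlgSpace_P (hB : IsAlgSpace B) (hG : IsAlgSpace G.left) (A : SpQuotObj Scheme.fppfPrecoverage G aX) :
    IsAlgSpace A.P.left := by
  obtain ⟨T', f, s, hf, hsurj, hs⟩ := exists_sections A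
  refine Bootstrap.isAlgSpace_of_fppfCover_family (IsAlgSpace.yon_obj A.base)
    (fun x => IsAlgSpace.yon_obj (T' x)) (isFppfCover_yon T' f hf fun x => ⟨x, hsurj x⟩) A.π.left fun x => ?_
  obtain ⟨t, ht⟩ := isPullback_trivialisation A (f x) (s x) (hs x)
  exact (isAlgSpace_tensor hB hG (Over.mk ((yon S).map (f x) ≫ A.b)) (IsAlgSpace.yon_obj (T' x))).of_iso
    ht.isoPullback

/-- Restricting to torsors that are spaces changes nothing. -/
theorem isEquivOver_subIncl (hB : IsAlgSpace B) (hG : IsAlgSpace G.left) :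
    FibCat.IsEquivOver
      (AlgSt.subIncl (SpQuotSt Scheme.fppfPrecoverage G aX) fun A => IsAlgSpace A.P.left) := by
  let Q : ObjectProperty (SpQuotSt Scheme.fppfPrecoverage G aX).obj := fun A => IsAlgSpace A.P.left
  have : (AlgSt.subIncl (SpQuotSt Scheme.fppfPrecoverage G aX) Q).toFunctor.Full :=
    inferInstanceAs (ObjectProperty.ι Q).Full
  have : (AlgSt.subIncl (SpQuotSt Scheme.fppfPrecoverage G aX) Q).toFunctor.Faithful :=
    inferInstanceAs (ObjectProperty.ι Q).Faithful
  exact AlgStack.BasedBasic.isEquivOver_of (AlgSt.subIncl (SpQuotSt Scheme.fppfPrecoverage G aX) Q)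
    fun A => ⟨⟨A, isAlgSpace_P hB hG A⟩, Iso.refl _, IsHomLift.id rfl⟩

end Groth.Agent.Lib.SpQuot
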