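import Groth.Agent.Lib.SpQuot.Glue
import Mathlib.CategoryTheory.Limits.Constructions.Over.Connected

/-!
# The quotient category with sheaf torsors: base change, separation, gluing of morphisms
-/

set_option autoImplicit false
set_option backward.isDefEq.respectTransparency false
set_option backward.isDefEq.respectTransparency.types false

universe u

open CategoryTheory CategoryTheory.Limits MonoidalCategory CartesianMonoidalCategory MonObj GrpObj AlgebraicGeometry Opposite

namespace Groth.Agent.Lib.SpQuot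

open AlgSp (Sp yon GAction)
open AlgSt (SpQuotObj SpQuotSt bHom HasSecLoc)
open Fibred.Descent (Sep GlueHom Fam)

variable {S : Scheme.{u}} {K : Precoverage Scheme.{u}} {B : Sp S} {G X : Over B} [GrpObj G]
  {aX : GAction G X}

omit [GrpObj G] in
/-- The sections over a covering pulled back along a morphism. -/
theorem hasSecLoc_of_isPullback [K.IsStableUnderBaseChange] {T T' : Over S} {P P' : Sp S}
    {π : P ⟶ (yon S).obj T} {π' : P' ⟶ (yon S).obj T'} {t : P' ⟶ P} (f : T' ⟶ T)
    (sq : IsPullback t π' π ((yon S).map f)) (h : HasSecLoc K π) : HasSecLoc K π' := by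
  obtain ⟨R, hR, hs⟩ := h
  refine ⟨R.pullbackArrows f.left, Precoverage.pullbackArrows_mem f.left hR, ?_⟩
  intro S' g hg
  cases hg with
  | @mk Z z hz =>
    obtain ⟨s, hs⟩ := hs z hz
    let m : Over.mk (pullback.snd z f.left ≫ T'.hom) ⟶ Over.mk (z ≫ T.hom) :=
      Over.homMk (pullback.fst z f.left) (by
        change pullback.fst z f.left ≫ z ≫ T.hom = pullback.snd z f.left ≫ T'.hom
        rw [← Category.assoc, pullback.condition, Category.assoc, Over.w f])
    refine ⟨sq.lift ((yon S).map m ≫ s) ((yon S).map (Over.homMk (pullback.snd z f.left))) ?_, sq.lift_snd _ _ _⟩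
    rw [Category.assoc, hs, ← Functor.map_comp, ← Functor.map_comp]
    congr 1
    exact Over.OverMorphism.ext pullback.condition

namespace Obj

variable (A : SpQuotObj K G aX) {T : Over S} (f : T ⟶ A.base)

/-- The base morphism over `B`. -/
noncomputable abbrev fB : Over.mk ((yon S).map f ≫ A.b) ⟶ Over.mk A.b := bHom f rfl

/-- The action on the base change of a torsor. -/
noncomputable def pullAct : GAction G (pullback A.π (fB A f)) where
  act := pullback.lift ((G ◁ pullback.fst A.π (fB A f)) ≫ A.act.act) (snd _ _ ≫ pullback.snd A.π (fB A f)) (by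
    rw [Category.assoc, A.cart.w, whiskerLeft_snd_assoc, Category.assoc, pullback.condition])
  one_act := by
    apply pullback.hom_ext
    · rw [Category.assoc, pullback.lift_fst, ← whisker_exchange_assoc, A.act.one_act,
        id_whiskerLeft, Category.assoc, Category.assoc, Iso.inv_hom_id, Category.comp_id]
    · simp [leftUnitor_hom]
  mul_act := by
    apply pullback.hom_ext
    · simp only [Category.assoc, pullback.lift_fst, ← whiskerLeft_comp_assoc]
      rw [whiskerLeft_comp_assoc, ← whisker_exchange_assoc, A.act.mul_act]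
      simp [tensor_whiskerLeft]
    · simp

/-- The base change of an object. -/
noncomputable def pull [K.IsStableUnderBaseChange] : SpQuotObj K G aX where
  base := T
  b := (yon S).map f ≫ A.b
  P := pullback A.π (fB A f)
  act := pullAct A f
  π := pullback.snd A.π (fB A f)
  cart := by
    refine IsPullback.of_right (h₁₂ := pullback.fst A.π (fB A f)) (v₁₃ := A.π) (h₂₂ := fB A f) ?_
      (pullback.lift_snd _ _ _) (IsPullback.of_hasPullback A.π (fB A f))
    have e : (pullAct A f).act ≫ pullback.fst A.π (fB A f) = (G ◁ pullback.fst A.π (fB A f)) ≫ A.act.act :=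
      pullback.lift_fst _ _ _
    rw [e, ← pullback.condition]
    exact (AlgSt.isPullback_whiskerLeft' (G := G) (pullback.fst A.π (fB A f))).paste_horiz A.cart
      |>.of_iso (Iso.refl _) (Iso.refl _) (Iso.refl _) (Iso.refl _) (by simp) (by simp) (by simp) (by simp)
  loc := hasSecLoc_of_isPullback f
    ((IsPullback.of_hasPullback A.π (fB A f)).map (Over.forget B)) A.loc
  φ := pullback.fst A.π (fB A f) ≫ A.φ
  eqv := by
    change pullback.lift _ _ _ ≫ _ = _
    rw [pullback.lift_fst_assoc, Category.assoc, A.eqv, whiskerLeft_comp, Category.assoc]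

/-- The cartesian morphism from the base change. -/
noncomputable def pullHom [K.IsStableUnderBaseChange] : pull A f ⟶ A where
  base := f
  wb := rfl
  top := pullback.fst A.π (fB A f)
  eqv := pullback.lift_fst _ _ _
  cart := IsPullback.of_hasPullback A.π (fB A f)
  wφ := rfl

end Obj

/-- Morphisms factor uniquely through morphisms over the same base morphism. -/
theorem exists_factor {A A' C : SpQuotObj K G aX} (m : A ⟶ A') (g : C ⟶ A') (k : C.base ⟶ A.base)
    (h : k ≫ m.base = g.base) : ∃! l : C ⟶ A, l.base = k ∧ l ≫ m = g := by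
  have wb : (yon S).map k ≫ A.b = C.b := by
    rw [← m.wb, ← Category.assoc, ← Functor.map_comp, h, g.wb]
  have hk : bHom k wb ≫ bHom m.base m.wb = bHom g.base g.wb :=
    Over.OverMorphism.ext (((yon S).map_comp _ _).symm.trans (congrArg _ h))
  let t : C.P ⟶ A.P := m.cart.lift g.top (C.π ≫ bHom k wb) (by rw [Category.assoc, hk, g.cart.w])
  have h1 : t ≫ m.top = g.top := m.cart.lift_fst _ _ _
  have h2 : t ≫ A.π = C.π ≫ bHom k wb := m.cart.lift_snd _ _ _
  refine ⟨⟨k, wb, t, ?_, IsPullback.of_right (by rw [h1, hk]; exact g.cart) h2 m.cart, ?_⟩,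
    ⟨rfl, SpQuotObj.hom_ext h h1⟩, ?_⟩
  · apply m.cart.hom_ext
    · rw [Category.assoc, h1, g.eqv, Category.assoc, m.eqv, ← whiskerLeft_comp_assoc, h1]
    · rw [Category.assoc, h2, Category.assoc, A.cart.w, whiskerLeft_snd_assoc, h2, ← Category.assoc,
        C.cart.w, Category.assoc]
  · rw [← m.wφ, reassoc_of% h1, g.wφ]
  · rintro l ⟨hl, hlm⟩
    refine SpQuotObj.hom_ext hl (m.cart.hom_ext ?_ ?_)
    · rw [← SpQuotObj.comp_top, hlm, h1]
    · rw [l.cart.w, h2]; congr 1; exact Over.OverMorphism.ext (congrArg (yon S).map hl)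

theorem isHomLift_of_base {A A' : SpQuotObj K G aX} (m : A ⟶ A') {f : A.base ⟶ A'.base} (h : m.base = f) :
    (SpQuotSt K G aX).p.IsHomLift f m := h ▸ IsHomLift.map (SpQuotObj.forget K G aX) m

theorem base_of_isHomLift {A A' : SpQuotObj K G aX} (m : A ⟶ A') {f : A.base ⟶ A'.base}
    (h : (SpQuotSt K G aX).p.IsHomLift f m) : m.base = f :=
  (IsHomLift.fac' (SpQuotSt K G aX).p f m).trans (by simp)

/-- The quotient category is fibred in groupoids. -/
theorem isFibGrpd [K.IsStableUnderBaseChange] : FibCat.IsFibGrpd (SpQuotSt K G aX).p where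
  exists_lift {A V} f := ⟨Obj.pull A f, Obj.pullHom A f, isHomLift_of_base _ rfl⟩
  isStronglyCartesian {C A} m :=
    { toIsHomLift := IsHomLift.map _ _
      universal_property' := fun {A'} k g hg => by
        have hb : g.base = k ≫ m.base := base_of_isHomLift g hg
        obtain ⟨l, ⟨h1, h2⟩, hu⟩ := exists_factor m g k hb.symm
        exact ⟨l, ⟨isHomLift_of_base l h1, h2⟩, fun l' hl' => hu l' ⟨base_of_isHomLift l' hl'.1, hl'.2⟩⟩ }

variable [K.IsStableUnderBaseChange] {U : Over S} {R : Sieve U}

/-- The base changes of a torsor to the members of a sieve. -/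
noncomputable def bcObj (A : SpQuotObj K G aX) (R : Sieve A.base) : Bc R (M := A.P) A.π.left where
  obj a := (Obj.pull A a.obj.hom).P
  «ι» a := (Obj.pullHom A a.obj.hom).top
  proj a := (Obj.pull A a.obj.hom).π.left
  isPullback a := (Obj.pullHom A a.obj.hom).cart.map (Over.forget B)

/-- Vertical morphisms are determined locally. -/
theorem sep (hR : R ∈ AlgSp.J S U) : Sep R (SpQuotSt K G aX) := by
  intro A A' a b ha hb h
  obtain rfl : A.base = U := IsHomLift.domain_eq (SpQuotSt K G aX).p (𝟙 U) a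
  obtain hBU : A'.base = A.base := IsHomLift.codomain_eq (SpQuotSt K G aX).p (𝟙 A.base) a
  have hab : a.base = b.base := by
    have e1 := IsHomLift.fac' (SpQuotSt K G aX).p (𝟙 A.base) a
    have e2 := IsHomLift.fac' (SpQuotSt K G aX).p (𝟙 A.base) b
    exact e1.trans e2.symm
  refine SpQuotObj.hom_ext hab ((bcObj A R).ext hR fun c => ?_)
  exact congrArg SpQuotObj.Hom.top (h c.obj.hom c.property (Obj.pullHom A c.obj.hom) (isHomLift_of_base _ rfl))

/-- Compatible families of morphisms glue. -/
theorem glueHom (hR : R ∈ AlgSp.J S U) : GlueHom R (SpQuotSt K G aX) := by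
  intro A A' hA hA' c hc
  change A.base = U at hA
  change A'.base = U at hA'
  subst hA
  let θ := fun ⦃W : Over S⦄ (f : W ⟶ A.base) (hf : R f) => c f hf (Obj.pullHom A f) (isHomLift_of_base _ rfl)
  have θ_base : ∀ ⦃W : Over S⦄ (f : W ⟶ A.base) (hf : R f), (θ f hf).base = f ≫ eqToHom hA'.symm := fun W f hf => by
    have := hc.lifts f hf (Obj.pullHom A f) (isHomLift_of_base _ rfl)
    have e := IsHomLift.fac' (SpQuotSt K G aX).p f (θ f hf)
    exact e.trans (Category.id_comp _)
  have θ_nat : ∀ ⦃W W' : Over S⦄ (g : W' ⟶ W) (f : W ⟶ A.base) (hf : R f) (f' : W' ⟶ A.base) (hf' : R f')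
      (hg : g ≫ f = f') (ρ : Obj.pull A f' ⟶ Obj.pull A f), ρ.base = g →
      ρ ≫ Obj.pullHom A f = Obj.pullHom A f' → θ f' hf' = ρ ≫ θ f hf := by
    intro W W' g f hf f' hf' hg ρ hρ e
    subst hg
    have hl : (SpQuotSt K G aX).p.IsHomLift (g ≫ f) (ρ ≫ Obj.pullHom A f) := by
      rw [e]; exact isHomLift_of_base _ rfl
    have := hc.comp f hf (Obj.pullHom A f) (isHomLift_of_base _ rfl) g ρ (isHomLift_of_base ρ hρ) hl
    rw [← this]
    exact Fam.Compatible.congr (c := c) rfl _ _ e.symm _ _
  let β := bcObj A R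
  let μ' : A'.P.left ⟶ (yon S).obj A.base := A'.π.left ≫ (yon S).map (eqToHom hA')
  let β' : Bc R (M := A'.P) μ' :=
    { obj := fun a => (Obj.pull A a.obj.hom).P
      «ι» := fun a => (θ a.obj.hom a.property).top
      proj := fun a => (Obj.pull A a.obj.hom).π.left
      isPullback := fun a => by
        refine ((θ a.obj.hom a.property).cart.map (Over.forget B)).of_iso (Iso.refl _) (Iso.refl _)
          (Iso.refl _) ((yon S).mapIso (eqToIso hA')) (by simp) (by simp) (by simp [μ']) ?_
        simp only [Over.forget_map, Over.homMk_left, Functor.mapIso_hom, eqToIso.hom, Iso.refl_hom, Category.id_comp]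
        rw [← Functor.map_comp, θ_base, Category.assoc, eqToHom_trans, eqToHom_refl, Category.comp_id] }
  have hmap : ∀ ⦃a b : (Stk.sieveCat R).obj⦄ (m : a ⟶ b),
      β.map m ≫ (θ b.obj.hom b.property).top = (θ a.obj.hom a.property).top ∧ β'.map m = β.map m := by
    intro a b m
    obtain ⟨ρ, ⟨hρ, e⟩, -⟩ := exists_factor (Obj.pullHom A b.obj.hom) (Obj.pullHom A a.obj.hom) m.hom.left
      (Over.w m.hom)
    have e2 := θ_nat m.hom.left b.obj.hom b.property a.obj.hom a.property (Over.w m.hom) ρ hρ e
    have e3 : ρ.top = β.map m := by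
      refine β.hom_ext' ?_ ?_
      · rw [Bc.map_ι]; exact congrArg SpQuotObj.Hom.top e
      · rw [Bc.map_proj]
        exact congr($(ρ.cart.w).left).trans (congrArg (fun k => _ ≫ (yon S).map k) hρ)
    have h1 : β.map m ≫ (θ b.obj.hom b.property).top = (θ a.obj.hom a.property).top := by
      rw [← e3, e2]; rfl
    refine ⟨h1, β'.hom_ext' ?_ ?_⟩
    · rw [Bc.map_ι]; exact h1.symm
    · rw [Bc.map_proj]; exact (β.map_proj m).symm
  obtain ⟨top, htop⟩ := β.exists_desc hR (fun a => (θ a.obj.hom a.property).top) fun a b m => (hmap m).1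
  obtain ⟨inv, hinv⟩ := β'.exists_desc hR (fun a => β.ι a) fun a b m => by
    rw [(hmap m).2, Bc.map_ι]
  have hiso : IsIso top := ⟨inv,
    β.ext hR fun a => ((reassoc_of% (htop a)) inv).trans ((hinv a).trans (Category.comp_id _).symm),
    β'.ext hR fun a => ((reassoc_of% (hinv a)) top).trans ((htop a).trans (Category.comp_id _).symm)⟩
  have hb : (yon S).map (eqToHom hA'.symm) ≫ A'.b = A.b := by
    refine hom_ext_of_sieve hR fun V f hf => ?_
    have h1 := (θ f hf).wb
    rw [θ_base f hf, Functor.map_comp, Category.assoc] at h1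
    exact h1
  have hπ : top ≫ A'.π = A.π ≫ bHom (eqToHom hA'.symm) hb := β.ext hR fun a => by
    rw [← Category.assoc, htop a, (θ a.obj.hom a.property).cart.w, ← Category.assoc]
    refine Eq.trans ?_ (congrArg (· ≫ bHom (eqToHom hA'.symm) hb) (Obj.pullHom A a.obj.hom).cart.w.symm)
    rw [Category.assoc]
    congr 1
    exact Over.OverMorphism.ext (((congrArg _ (θ_base a.obj.hom a.property))).trans ((yon S).map_comp _ _))
  have heqv : A.act.act ≫ top = (G ◁ top) ≫ A'.act.act := (β.whisker G).ext hR fun a => by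
    change (G ◁ β.ι a) ≫ A.act.act ≫ top = (G ◁ β.ι a) ≫ (G ◁ top) ≫ A'.act.act
    rw [← whiskerLeft_comp_assoc, htop, ← (θ a.obj.hom a.property).eqv, ← Category.assoc]
    refine (congrArg (· ≫ top) (Obj.pullHom A a.obj.hom).eqv.symm).trans ?_
    rw [Category.assoc]
    exact congrArg _ (htop a)
  have hφ : top ≫ A'.φ = A.φ := β.ext hR fun a => by
    rw [← Category.assoc, htop, (θ a.obj.hom a.property).wφ]
    exact (Obj.pullHom A a.obj.hom).wφ.symm
  haveI : IsIso (bHom (eqToHom hA'.symm) hb) :=
    haveI : IsIso ((Over.forget B).map (bHom (eqToHom hA'.symm) hb)) :=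
      inferInstanceAs (IsIso ((yon S).map (eqToHom hA'.symm)))
    isIso_of_reflects_iso _ (Over.forget B)
  let m : A ⟶ A' := ⟨eqToHom hA'.symm, hb, top, heqv, IsPullback.of_horiz_isIso ⟨hπ⟩, hφ⟩
  refine ⟨m, IsHomLift.of_fac' _ _ _ rfl hA' (show eqToHom hA'.symm = _ by simp), fun V f hf z ψ hψ => ?_⟩
  obtain rfl : z.base = V := IsHomLift.domain_eq (SpQuotSt K G aX).p f ψ
  have hb' : ψ.base = f := base_of_isHomLift ψ hψ
  obtain ⟨ρ, ⟨hρ, e⟩, -⟩ := exists_factor (Obj.pullHom A f) ψ (𝟙 z.base) ((Category.id_comp _).trans hb'.symm)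
  have hρ' : (SpQuotSt K G aX).p.IsHomLift (𝟙 z.base) ρ := isHomLift_of_base ρ hρ
  have hl : (SpQuotSt K G aX).p.IsHomLift (𝟙 z.base ≫ f) (ρ ≫ Obj.pullHom A f) := by
    rw [Category.id_comp, e]; exact hψ
  have := hc.comp f hf (Obj.pullHom A f) (isHomLift_of_base _ rfl) (𝟙 z.base) ρ hρ' hl
  rw [Fam.Compatible.congr (c := c) (Category.id_comp f) _ hf e _ hψ] at this
  rw [this]
  refine SpQuotObj.hom_ext ?_ ?_
  · change ψ.base ≫ eqToHom hA'.symm = ρ.base ≫ (θ f hf).base
    rw [θ_base, hρ, hb', Category.id_comp]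
  · change ψ.top ≫ top = ρ.top ≫ (θ f hf).top
    rw [← e, SpQuotObj.comp_top, Category.assoc]
    exact congrArg _ (htop (mem f hf))

end Groth.Agent.Lib.SpQuot
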