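import Groth.Agent.Lib.SpQuot.Unit
import Groth.Agent.Lib.SpQuot.Space
import Groth.Agent.Lib.AlgStack.StkFp
import Groth.Agent.Lib.AlgStack.StkBasic
import Groth.Agent.Lib.AlgStack.Diag

/-!
# The sheaf of isomorphisms between two torsors
-/

set_option autoImplicit false
set_option backward.isDefEq.respectTransparency false
set_option backward.isDefEq.respectTransparency.types false
set_option linter.style.haveILetI false

universe u

open CategoryTheory CategoryTheory.Limits MonoidalCategory CartesianMonoidalCategory MonObj GrpObj AlgebraicGeometry Opposite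

namespace Groth.Agent.Lib.SpQuot

open AlgSp (Sp yon GAction IsAlgSpace)
open AlgSt (SpQuotObj SpQuotSt bHom ofSp spMapOfOver RepByAlgSpWith)
open FibCat (fp fpFst fpSnd overCat toSelf selfOver)
open Groth.Agent.Lib.AlgSpace
open AlgStack

variable {S : Scheme.{u}} {B : Sp S} {G X : Over B} [GrpObj G] {aX : GAction G X}

variable {U : Over S} (z : overCat U ⥤ᵇ fp (toSelf (SpQuotSt Scheme.fppfPrecoverage G aX)) (toSelf (SpQuotSt Scheme.fppfPrecoverage G aX)))

/-- The first object. -/
noncomputable abbrev fstF : overCat U ⥤ᵇ (SpQuotSt Scheme.fppfPrecoverage G aX) := BasedFunctor.comp z (fpFst _ _)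

/-- The second object. -/
noncomputable abbrev sndF : overCat U ⥤ᵇ (SpQuotSt Scheme.fppfPrecoverage G aX) := BasedFunctor.comp z (fpSnd _ _)

/-- Sections of the sheaf of isomorphisms. -/
structure Isom (T : Over S) : Type (u + 1) where
  /-- the map to the base -/
  k : T ⟶ U
  /-- the morphism to the second vertex -/
  φ : (fstF z).obj (Over.mk k) ⟶ vertex (sndF z)
  base : φ.base = eqToHom (obj_base (fstF z) (Over.mk k)) ≫ k ≫ eqToHom (vertex_base (sndF z)).symm

variable {z}

theorem map_base' (F : overCat U ⥤ᵇ (SpQuotSt Scheme.fppfPrecoverage G aX)) {g g' : Over U} (m : g ⟶ g') :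
    (F.map m).base = eqToHom (obj_base F g) ≫ m.left ≫ eqToHom (obj_base F g').symm :=
  CategoryTheory.Functor.congr_hom F.w m

theorem Isom.ext' {T : Over S} {x y : Isom z T} (h : x.k = y.k)
    (h' : (fstF z).map (Over.homMk (𝟙 T) (show 𝟙 T ≫ y.k = x.k by simp [h]) : Over.mk x.k ⟶ Over.mk y.k) ≫ y.φ = x.φ) :
    x = y := by
  obtain ⟨k, φ, _⟩ := x
  obtain ⟨k', φ', _⟩ := y
  obtain rfl : k = k' := h
  have e : (Over.homMk (𝟙 T) (by simp) : Over.mk k ⟶ Over.mk k) = 𝟙 _ := Over.OverMorphism.ext rfl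
  obtain rfl : φ' = φ := by
    have := h'
    rw [e, CategoryTheory.Functor.map_id] at this
    exact (Category.id_comp _).symm.trans this
  rfl

/-- Restriction. -/
noncomputable def Isom.restr {T T' : Over S} (x : Isom z T) (g : T' ⟶ T) : Isom z T' where
  k := g ≫ x.k
  φ := (fstF z).map (Over.homMk g rfl : Over.mk (g ≫ x.k) ⟶ Over.mk x.k) ≫ x.φ
  base := by
    rw [SpQuotObj.comp_base, x.base, map_base']
    simp

variable (z)

/-- The presheaf of isomorphisms. -/
noncomputable def isomPsh : AlgSp.PSp S where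
  obj T := Isom z T.unop
  map g := ↾fun x => x.restr g.unop
  map_id T := by
    ext x
    exact Isom.ext' (Category.id_comp _) rfl
  map_comp {T₁ T₂ T₃} g g' := by
    ext x
    refine Isom.ext' (Category.assoc _ _ _) ?_
    change (fstF z).map _ ≫ (fstF z).map _ ≫ (fstF z).map _ ≫ x.φ = (fstF z).map _ ≫ x.φ
    rw [← CategoryTheory.Functor.map_comp_assoc, ← CategoryTheory.Functor.map_comp_assoc]
    congr 2

/-- The morphism to the second object determined by an object of the base change of the diagonal. -/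
noncomputable def theta (ζ : (fp z (FibCat.diag (toSelf (SpQuotSt Scheme.fppfPrecoverage G aX)))).obj) :
    (fstF z).obj ζ.obj.fst ⟶ (sndF z).obj ζ.obj.fst :=
  ζ.obj.iso.hom.hom.fst ≫ ζ.obj.iso.inv.hom.snd

theorem theta_base (ζ : (fp z (FibCat.diag (toSelf (SpQuotSt Scheme.fppfPrecoverage G aX)))).obj) :
    (theta z ζ).base = eqToHom ((obj_base (fstF z) ζ.obj.fst).trans (obj_base (sndF z) ζ.obj.fst).symm) := by
  have h : (fp (toSelf (SpQuotSt Scheme.fppfPrecoverage G aX)) (toSelf (SpQuotSt Scheme.fppfPrecoverage G aX))).p.IsHomLift (𝟙 ((overCat U).p.obj ζ.obj.fst)) ζ.obj.iso.hom := ζ.property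
  have h' := IsHomLift.lift_id_inv (fp (toSelf (SpQuotSt Scheme.fppfPrecoverage G aX)) (toSelf (SpQuotSt Scheme.fppfPrecoverage G aX))).p ((overCat U).p.obj ζ.obj.fst) ζ.obj.iso
  have h1 : (SpQuotSt Scheme.fppfPrecoverage G aX).p.IsHomLift (𝟙 ((overCat U).p.obj ζ.obj.fst)) ζ.obj.iso.hom.hom.fst :=
    BasedFunctor.preserves_isHomLift (fpFst (toSelf (SpQuotSt Scheme.fppfPrecoverage G aX)) (toSelf (SpQuotSt Scheme.fppfPrecoverage G aX))) _ _
  have h2 : (SpQuotSt Scheme.fppfPrecoverage G aX).p.IsHomLift (𝟙 ((overCat U).p.obj ζ.obj.fst)) ζ.obj.iso.inv.hom.snd :=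
    BasedFunctor.preserves_isHomLift (fpSnd (toSelf (SpQuotSt Scheme.fppfPrecoverage G aX)) (toSelf (SpQuotSt Scheme.fppfPrecoverage G aX))) _ _
  have h3 : (SpQuotSt Scheme.fppfPrecoverage G aX).p.IsHomLift (𝟙 ((overCat U).p.obj ζ.obj.fst)) (theta z ζ) := by
    rw [theta]; infer_instance
  exact (IsHomLift.fac' (SpQuotSt Scheme.fppfPrecoverage G aX).p (𝟙 ((overCat U).p.obj ζ.obj.fst)) (theta z ζ)).trans (by simp)

theorem snd_base (ζ : (fp z (FibCat.diag (toSelf (SpQuotSt Scheme.fppfPrecoverage G aX)))).obj) : ζ.obj.snd.base = (show Over U from ζ.obj.fst).left :=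
  FibProd.snd_obj ζ

/-- The section of an object. -/
noncomputable def toIsom (ζ : (fp z (FibCat.diag (toSelf (SpQuotSt Scheme.fppfPrecoverage G aX)))).obj) : Isom z (show Over U from ζ.obj.fst).left where
  k := (show Over U from ζ.obj.fst).hom
  φ := theta z ζ ≫ toVertex (sndF z) ζ.obj.fst
  base := by
    rw [SpQuotObj.comp_base, theta_base, toVertex_base]
    simp

/-- An object attached to a section. -/
theorem exists_isom_obj {T : Over S} (x : Isom z T) :
    ∃ ζ : (fp z (FibCat.diag (toSelf (SpQuotSt Scheme.fppfPrecoverage G aX)))).obj, ∃ h : ζ.obj.fst = Over.mk x.k,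
      theta z ζ ≫ toVertex (sndF z) ζ.obj.fst = eqToHom (congrArg (fstF z).obj h) ≫ x.φ := by
  let u : Over U := Over.mk x.k
  let k : ((fstF z).obj u).base ⟶ ((sndF z).obj u).base :=
    eqToHom ((obj_base (fstF z) u).trans (obj_base (sndF z) u).symm)
  obtain ⟨l, ⟨hl, hlφ⟩, -⟩ := exists_factor (toVertex (sndF z) u) x.φ k (by
    rw [toVertex_base, x.base]; simp [k, u])
  have hl' : (SpQuotSt Scheme.fppfPrecoverage G aX).p.IsHomLift (𝟙 T) l :=
    IsHomLift.of_fac' _ _ _ (obj_base (fstF z) u) (obj_base (sndF z) u) (by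
      change l.base = _
      simp [hl, k])
  haveI := BasedBasic.isIso_of_isHomLift_id (isFibGrpd (K := Scheme.fppfPrecoverage) (aX := aX)) (R := T) l
  let ξ : (SpQuotSt Scheme.fppfPrecoverage G aX).obj := (fstF z).obj u
  have hid : (SpQuotSt Scheme.fppfPrecoverage G aX).p.IsHomLift (𝟙 T) (𝟙 ξ) := IsHomLift.id (obj_base (fstF z) u)
  have hli : (SpQuotSt Scheme.fppfPrecoverage G aX).p.IsHomLift (𝟙 T) (inv l) :=
    haveI : (SpQuotSt Scheme.fppfPrecoverage G aX).p.IsHomLift (𝟙 T) (asIso l).hom := hl'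
    IsHomLift.lift_id_inv _ T (asIso l)
  have hzT : (fp (toSelf (SpQuotSt Scheme.fppfPrecoverage G aX)) (toSelf (SpQuotSt Scheme.fppfPrecoverage G aX))).p.obj (z.obj u) = T := z.w_obj u
  have hz : (selfOver (Over S)).p.IsHomLift (𝟙 T) (z.obj u).obj.iso.hom := by
    have h := (z.obj u).property
    change (selfOver (Over S)).p.IsHomLift (𝟙 ((fp (toSelf (SpQuotSt Scheme.fppfPrecoverage G aX)) (toSelf (SpQuotSt Scheme.fppfPrecoverage G aX))).p.obj (z.obj u))) _ at h
    rwa [hzT] at h
  have hd : (selfOver (Over S)).p.IsHomLift (𝟙 T) ((FibCat.diag (toSelf (SpQuotSt Scheme.fppfPrecoverage G aX))).obj ξ).obj.iso.hom := by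
    have h := ((FibCat.diag (toSelf (SpQuotSt Scheme.fppfPrecoverage G aX))).obj ξ).property
    change (selfOver (Over S)).p.IsHomLift (𝟙 ξ.base) _ at h
    have e : ξ.base = T := obj_base (fstF z) u
    rwa [e] at h
  have hid' : (selfOver (Over S)).p.IsHomLift (𝟙 T) (𝟙 ((toSelf (SpQuotSt Scheme.fppfPrecoverage G aX)).obj ξ)) := IsHomLift.id (obj_base (fstF z) u)
  let i : z.obj u ≅ (FibCat.diag (toSelf (SpQuotSt Scheme.fppfPrecoverage G aX))).obj ξ :=
    { hom := FibProd.homMk (𝟙 ξ) (inv l) (AlgStack.Diag.selfOver_hom_eq (𝟙 T) _ _)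
      inv := FibProd.homMk (𝟙 ξ) l (AlgStack.Diag.selfOver_hom_eq (𝟙 T) _ _)
      hom_inv_id := FibProd.hom_ext (Category.id_comp _) (IsIso.inv_hom_id l)
      inv_hom_id := FibProd.hom_ext (Category.id_comp _) (IsIso.hom_inv_id l) }
  have hi : (fp (toSelf (SpQuotSt Scheme.fppfPrecoverage G aX)) (toSelf (SpQuotSt Scheme.fppfPrecoverage G aX))).p.IsHomLift (𝟙 T) i.hom :=
    IsHomLift.of_fac' _ _ _ (z.w_obj u) (obj_base (fstF z) u)
      (IsHomLift.fac' (SpQuotSt Scheme.fppfPrecoverage G aX).p (𝟙 T) (𝟙 ξ))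
  refine ⟨FibProd.objMk u ξ i hi, rfl, ?_⟩
  rw [eqToHom_refl, Category.id_comp, ← hlφ]
  change (𝟙 ξ ≫ l) ≫ _ = _
  rw [Category.id_comp]

/-- Morphisms of the base change of the diagonal, from the sections. -/
theorem exists_map_of_theta {ζ ζ' : (fp z (FibCat.diag (toSelf (SpQuotSt Scheme.fppfPrecoverage G aX)))).obj} (ψ : ζ.obj.fst ⟶ ζ'.obj.fst)
    (h : theta z ζ ≫ toVertex (sndF z) ζ.obj.fst =
      (fstF z).map ψ ≫ theta z ζ' ≫ toVertex (sndF z) ζ'.obj.fst) :
    ∃ φ : ζ ⟶ ζ', φ.hom.fst = ψ := by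
  have key : theta z ζ ≫ (sndF z).map ψ = (fstF z).map ψ ≫ theta z ζ' := by
    obtain ⟨l, -, hu⟩ := exists_factor (toVertex (sndF z) ζ'.obj.fst) (theta z ζ ≫ toVertex (sndF z) ζ.obj.fst)
      (theta z ζ ≫ (sndF z).map ψ).base (by
        rw [← SpQuotObj.comp_base, Category.assoc, map_toVertex])
    refine (hu _ ⟨rfl, ?_⟩).trans (hu _ ⟨?_, ?_⟩).symm
    · rw [Category.assoc, map_toVertex]
    · rw [SpQuotObj.comp_base, SpQuotObj.comp_base, theta_base, theta_base, map_base', map_base']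
      simp
    · rw [Category.assoc, h]
  let i := ζ.obj.iso
  let i' := ζ'.obj.iso
  have e1 : i.inv.hom.fst ≫ i.hom.hom.fst = 𝟙 _ := congrArg (fun m => m.hom.fst) i.inv_hom_id
  have e2 : i.hom.hom.fst ≫ i.inv.hom.fst = 𝟙 _ := congrArg (fun m => m.hom.fst) i.hom_inv_id
  have e3 : i.hom.hom.snd ≫ i.inv.hom.snd = 𝟙 _ := congrArg (fun m => m.hom.snd) i.hom_inv_id
  have e4 : i'.inv.hom.snd ≫ i'.hom.hom.snd = 𝟙 _ := congrArg (fun m => m.hom.snd) i'.inv_hom_id
  let χ : ζ.obj.snd ⟶ ζ'.obj.snd := i.inv.hom.fst ≫ (fstF z).map ψ ≫ i'.hom.hom.fst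
  refine ⟨FibProd.homMk ψ χ (FibProd.hom_ext ?_ ?_), rfl⟩
  · change (fstF z).map ψ ≫ i'.hom.hom.fst = i.hom.hom.fst ≫ χ
    simp only [χ, reassoc_of% e2]
  · change (sndF z).map ψ ≫ i'.hom.hom.snd = i.hom.hom.snd ≫ χ
    have k2 := congrArg (fun t => i.hom.hom.snd ≫ i.inv.hom.fst ≫ t ≫ i'.hom.hom.snd) key
    simp only [theta, Category.assoc] at k2
    change i.hom.hom.snd ≫ i.inv.hom.fst ≫ i.hom.hom.fst ≫ i.inv.hom.snd ≫ (sndF z).map ψ ≫ i'.hom.hom.snd =
      i.hom.hom.snd ≫ i.inv.hom.fst ≫ (fstF z).map ψ ≫ i'.hom.hom.fst ≫ i'.inv.hom.snd ≫ i'.hom.hom.snd at k2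
    rw [reassoc_of% e1, reassoc_of% e3, e4] at k2
    rw [k2]
    simp only [χ]
    erw [Category.comp_id]

/-- Morphisms of the base change of the diagonal respect the sections. -/
theorem theta_of_map {ζ ζ' : (fp z (FibCat.diag (toSelf (SpQuotSt Scheme.fppfPrecoverage G aX)))).obj} (φ : ζ ⟶ ζ') :
    theta z ζ ≫ toVertex (sndF z) ζ.obj.fst =
      (fstF z).map φ.hom.fst ≫ theta z ζ' ≫ toVertex (sndF z) ζ'.obj.fst := by
  have w1 : (fstF z).map φ.hom.fst ≫ ζ'.obj.iso.hom.hom.fst = ζ.obj.iso.hom.hom.fst ≫ φ.hom.snd :=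
    congrArg (fun m => m.hom.fst) φ.hom.w
  have w2 : (sndF z).map φ.hom.fst ≫ ζ'.obj.iso.hom.hom.snd = ζ.obj.iso.hom.hom.snd ≫ φ.hom.snd :=
    congrArg (fun m => m.hom.snd) φ.hom.w
  have e3 : ζ.obj.iso.inv.hom.snd ≫ ζ.obj.iso.hom.hom.snd = 𝟙 _ :=
    congrArg (fun m => m.hom.snd) ζ.obj.iso.inv_hom_id
  have e4 : ζ'.obj.iso.hom.hom.snd ≫ ζ'.obj.iso.inv.hom.snd = 𝟙 _ :=
    congrArg (fun m => m.hom.snd) ζ'.obj.iso.hom_inv_id
  have key : theta z ζ ≫ (sndF z).map φ.hom.fst = (fstF z).map φ.hom.fst ≫ theta z ζ' := by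
    simp only [theta, Category.assoc]
    rw [reassoc_of% w1]
    congr 1
    have := congrArg (fun t => ζ.obj.iso.inv.hom.snd ≫ t ≫ ζ'.obj.iso.inv.hom.snd) w2
    simp only [Category.assoc] at this
    rw [reassoc_of% e3, e4] at this
    erw [Category.comp_id] at this
    exact this
  rw [← map_toVertex (sndF z) φ.hom.fst, ← Category.assoc, key, Category.assoc]

theorem eqToHom_homMk_eqToHom {T T' : Over S} {k : T ⟶ U} {k' : T' ⟶ U} {a a' : Over U} (g : T ⟶ T')
    (w : g ≫ k' = k) (h : a = Over.mk k) (h' : Over.mk k' = a') :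
    (eqToHom h ≫ (Over.homMk g w : Over.mk k ⟶ Over.mk k') ≫ eqToHom h').left =
      eqToHom (congrArg (fun b : Over U => b.left) h) ≫ g ≫ eqToHom (congrArg (fun b : Over U => b.left) h') := by
  subst h h'
  simp

theorem left_eqToHom_conj {a b c d : Over U} (h : a = b) (m : b ⟶ c) (h' : c = d) :
    (eqToHom h ≫ m ≫ eqToHom h').left =
      eqToHom (congrArg (fun b : Over U => b.left) h) ≫ m.left ≫ eqToHom (congrArg (fun b : Over U => b.left) h') := by
  subst h h'
  simp

theorem left_eqToHom_comp {a b c : Over U} (h : a = b) (m : b ⟶ c) :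
    (eqToHom h ≫ m).left = eqToHom (congrArg (fun b : Over U => b.left) h) ≫ m.left := by
  subst h
  simp

/-- The presheaf of isomorphisms represents the base change of the diagonal. -/
theorem exists_equiv_isom :
    ∃ e : Stk.ofPsh (isomPsh z) ⥤ᵇ fp z (FibCat.diag (toSelf (SpQuotSt Scheme.fppfPrecoverage G aX))), FibCat.IsEquivOver e ∧
      ∀ a, (e.obj a).obj.fst = Over.mk (show Isom z a.base from a.sec).k := by
  have hpX : FibCat.IsFibGrpd (SpQuotSt Scheme.fppfPrecoverage G aX).p := isFibGrpd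
  have hself : FibCat.IsFibGrpd (selfOver (Over S)).p :=
    { exists_lift := fun {x V} f => ⟨V, f, IsHomLift.map (selfOver (Over S)).p f⟩
      isStronglyCartesian := fun {a b} φ =>
        { toIsHomLift := IsHomLift.map _ _
          universal_property' := fun {a'} g φ' hφ' => by
            have e : φ' = g ≫ φ := (@IsHomLift.eq_of_isHomLift _ _ _ _ (selfOver (Over S)).p _ _ (g ≫ φ) φ' hφ').symm
            refine ⟨g, ⟨IsHomLift.map (selfOver (Over S)).p g, e.symm⟩, fun χ hχ => ?_⟩
            obtain ⟨hl, -⟩ := hχ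
            exact (IsHomLift.eq_of_isHomLift (selfOver (Over S)).p g χ).symm } }
  have hp : FibCat.IsFibGrpd (fp z (FibCat.diag (toSelf (SpQuotSt Scheme.fppfPrecoverage G aX)))).p :=
    FibProd.isFibGrpd_fp (Yoneda.isFibGrpd_overCat U) hpX (FibProd.isFibGrpd_fp hpX hpX hself)
  haveI : (FibCat.diag (toSelf (SpQuotSt Scheme.fppfPrecoverage G aX))).toFunctor.Faithful :=
    ⟨fun {_ _ _ _} h => congrArg (fun m => m.hom.fst) h⟩
  have hs : Yoneda.Setoidal (fp z (FibCat.diag (toSelf (SpQuotSt Scheme.fppfPrecoverage G aX)))) :=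
    FibProd.setoidal_fp_of_faithful fun a φ h => Over.OverMorphism.ext h
  choose obj hfst hθ using fun (T : Over S) (x : Isom z T) => exists_isom_obj z x
  have hbase : ∀ T x, (show Over U from (obj T x).obj.fst).left = T := fun T x => by rw [hfst]; rfl
  have hlift : ∀ {ζ ζ' : (fp z (FibCat.diag (toSelf (SpQuotSt Scheme.fppfPrecoverage G aX)))).obj} (φ : ζ ⟶ ζ') {T T' : Over S} (g : T ⟶ T')
      (hd : (show Over U from ζ.obj.fst).left = T) (hc : (show Over U from ζ'.obj.fst).left = T'),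
      (show (show Over U from ζ.obj.fst) ⟶ (show Over U from ζ'.obj.fst) from φ.hom.fst).left =
        eqToHom hd ≫ g ≫ eqToHom hc.symm →
      (fp z (FibCat.diag (toSelf (SpQuotSt Scheme.fppfPrecoverage G aX)))).p.IsHomLift g φ :=
    fun φ T T' g hd hc e => IsHomLift.of_fac' _ _ _ hd hc e
  obtain ⟨e, he, heobj⟩ := RepTool.exists_equiv (F := isomPsh z) hp hs (fun T x => obj T x) (fun T x => hbase T x)
    (fun {T T'} g x => by
      let ψ₀ : Over.mk (Isom.restr x g).k ⟶ Over.mk (show Isom z T from x).k := Over.homMk g rfl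
      let ψ : (obj T' (Isom.restr x g)).obj.fst ⟶ (obj T x).obj.fst :=
        eqToHom (hfst T' _) ≫ ψ₀ ≫ eqToHom (hfst T x).symm
      obtain ⟨φ, hφ⟩ := exists_map_of_theta z ψ (by
        rw [hθ, hθ]
        simp only [ψ, Isom.restr, Functor.map_comp, Category.assoc, eqToHom_map, eqToHom_trans_assoc, eqToHom_refl,
          Category.id_comp]
        rfl)
      refine ⟨φ, hlift φ g (hbase _ _) (hbase _ _) ?_⟩
      rw [hφ]
      exact eqToHom_homMk_eqToHom g _ _ _)
    (fun T x x' φ hφ => by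
      have hψ : (show (show Over U from (obj T x).obj.fst) ⟶ (show Over U from (obj T x').obj.fst) from φ.hom.fst).left =
          eqToHom ((hbase T x).trans (hbase T x').symm) :=
        (IsHomLift.fac' (fp z (FibCat.diag (toSelf (SpQuotSt Scheme.fppfPrecoverage G aX)))).p (𝟙 T) φ).trans (by simp)
      let ψ₁ : Over.mk (show Isom z T from x).k ⟶ Over.mk (show Isom z T from x').k :=
        eqToHom (hfst T x).symm ≫ φ.hom.fst ≫ eqToHom (hfst T x')
      have hψ₁ : ψ₁.left = 𝟙 T := by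
        refine (left_eqToHom_conj (hfst T x).symm φ.hom.fst (hfst T x')).trans
          ((congrArg (fun t => _ ≫ t ≫ _) hψ).trans ?_)
        simp
      have hk : (show Isom z T from x).k = (show Isom z T from x').k := by
        have := Over.w ψ₁
        rw [hψ₁] at this
        exact this.symm.trans (Category.id_comp _)
      refine Isom.ext' hk ?_
      have e := theta_of_map z φ
      rw [hθ, hθ] at e
      have e' : (show Isom z T from x).φ = (fstF z).map ψ₁ ≫ (show Isom z T from x').φ := by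
        rw [← cancel_epi (eqToHom (congrArg (fstF z).obj (hfst T x))), e]
        simp [ψ₁, eqToHom_map]
      rw [e']
      congr 2
      exact Over.OverMorphism.ext hψ₁.symm)
    (fun ζ => by
      refine ⟨toIsom z ζ, ?_⟩
      let u : Over U := ζ.obj.fst
      let ψ₀ : Over.mk (toIsom z ζ).k ⟶ u := Over.homMk (𝟙 _) (Category.id_comp _)
      let ψ : (obj _ (toIsom z ζ)).obj.fst ⟶ ζ.obj.fst := eqToHom (hfst _ _) ≫ ψ₀
      obtain ⟨φ, hφ⟩ := exists_map_of_theta z ψ (by
        rw [hθ]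
        have e0 : ψ₀ = 𝟙 u := Over.OverMorphism.ext rfl
        simp only [ψ, e0, Functor.map_comp, eqToHom_map, CategoryTheory.Functor.map_id, Category.assoc]
        congr 1
        rw [show (fstF z).map (𝟙 u) = 𝟙 _ from CategoryTheory.Functor.map_id _ _]
        exact (Category.id_comp _).symm)
      refine ⟨φ, hlift φ _ (hbase _ _) rfl ?_⟩
      rw [hφ]
      exact (left_eqToHom_comp _ _).trans (by simp [ψ₀]))
  exact ⟨e, he, fun a => by rw [heobj]; exact hfst a.base a.sec⟩

theorem isStack_selfOver : Stk.IsStack (AlgSp.J S) (selfOver (Over S)) := by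
  let t : Over S := Over.mk (𝟙 S)
  let F : overCat t ⥤ᵇ selfOver (Over S) := toSelf (overCat t)
  have hT : IsTerminal t := Over.mkIdTerminal
  have : F.toFunctor.Faithful := ⟨fun h => Over.OverMorphism.ext h⟩
  have : F.toFunctor.Full := ⟨fun {a b} m => ⟨Over.homMk m (hT.hom_ext _ _), rfl⟩⟩
  have hF : FibCat.IsEquivOver F :=
    BasedBasic.isEquivOver_of F fun ζ => ⟨Over.mk (hT.from ζ), Iso.refl _, IsHomLift.id rfl⟩
  exact StkBasic.isStack_of_isEquivOver hF ((StkBasic.isStack_overCat_iff _ t).2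
    (GrothendieckTopology.Subcanonical.isSheaf_of_isRepresentable _))

theorem isSheaf_isomPsh : Presheaf.IsSheaf (AlgSp.J S) (isomPsh z) := by
  rw [isSheaf_iff_isSheaf_of_type]
  obtain ⟨e, he, -⟩ := exists_equiv_isom z
  refine (StkBasic.isStack_ofPsh_iff _ _).1 ((StkBasic.isStack_iff_of_isEquivOver he).2 ?_)
  have hU : Stk.IsStack (AlgSp.J S) (overCat U) := (StkBasic.isStack_overCat_iff _ U).2
    (GrothendieckTopology.Subcanonical.isSheaf_of_isRepresentable _)
  have hX : Stk.IsStack (AlgSp.J S) (SpQuotSt Scheme.fppfPrecoverage G aX) := isStack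
  have hprod := StkFp.isStack_fp (F := toSelf (SpQuotSt Scheme.fppfPrecoverage G aX)) (G := toSelf (SpQuotSt Scheme.fppfPrecoverage G aX)) hX hX
    ⟨isStack_selfOver.1, fun U R hR => by
      have : (Stk.resSieve R (selfOver (Over S))).IsEquivalence := isStack_selfOver.2 R hR
      exact ⟨inferInstance, inferInstance⟩⟩
  exact StkFp.isStack_fp hU hX ⟨hprod.1, fun U R hR => by
    have : (Stk.resSieve R (fp (toSelf (SpQuotSt Scheme.fppfPrecoverage G aX)) (toSelf (SpQuotSt Scheme.fppfPrecoverage G aX)))).IsEquivalence := hprod.2 R hR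
    exact ⟨inferInstance, inferInstance⟩⟩

/-- The sheaf of isomorphisms. -/
noncomputable def isomSh : Sp S := ⟨isomPsh z, isSheaf_isomPsh z⟩

/-- Its map to the base. -/
noncomputable def isomHom : isomSh z ⟶ (yon S).obj U :=
  ObjectProperty.homMk { app := fun T => ↾fun x => ⟨(show Isom z T.unop from x).k⟩ }

theorem comp_isomHom {T : Over S} (x : Isom z T) :
    (secEquiv (F := isomSh z) T).symm x ≫ isomHom z = (yon S).map x.k := by
  apply (secEquiv T).injective
  rw [secEquiv_comp, Equiv.apply_symm_apply]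
  exact congrArg ULift.up (Category.id_comp _).symm

section Local

variable (hBt : ∀ {T : Over S} (f g : (yon S).obj T ⟶ B), f = g) (hXt : ∀ {M : Over B} (f g : M ⟶ X), f = g)
  {T' : Over S} (f : T' ⟶ (vertex (fstF z)).base) (s : (yon S).obj T' ⟶ (vertex (fstF z)).P.left)
  (hs : s ≫ (vertex (fstF z)).π.left = (yon S).map f)

/-- The point of the first torsor over a member. -/
noncomputable abbrev localPt {T : Over S} (k' : T ⟶ T') :
    Over.mk (((yon S).map k' ≫ s) ≫ (vertex (fstF z)).P.hom) ⟶ (vertex (fstF z)).P :=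
  Over.homMk ((yon S).map k' ≫ s) rfl

include hs in
theorem exists_localIso {T : Over S} (k' : T ⟶ T') (k : T ⟶ U) (hk : k' ≫ f ≫ eqToHom (vertex_base (fstF z)) = k) :
    ∃ l : trivObj Scheme.fppfPrecoverage aX (localPt z s k' ≫ (vertex (fstF z)).φ) ⟶ (fstF z).obj (Over.mk k),
      IsIso l ∧ point (l ≫ toVertex (fstF z) (Over.mk k)) = localPt z s k' ∧
      l.base = eqToHom (obj_base (fstF z) (Over.mk k)).symm := by
  have wb : (yon S).map (k' ≫ f) ≫ (vertex (fstF z)).b = ((yon S).map k' ≫ s) ≫ (vertex (fstF z)).P.hom := by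
    rw [Functor.map_comp, Category.assoc, ← hs]
    simp only [Category.assoc]
    exact congrArg (_ ≫ ·) (congrArg (_ ≫ ·) (Over.w (vertex (fstF z)).π))
  let m := ofPoint (A := vertex (fstF z)) (x := localPt z s k' ≫ (vertex (fstF z)).φ) (k' ≫ f) wb (localPt z s k')
    (Over.OverMorphism.ext (by
      change ((yon S).map k' ≫ s) ≫ _ = _
      rw [Category.assoc, hs, ← Functor.map_comp]
      rfl)) rfl
  obtain ⟨l, ⟨hl, hlm⟩, -⟩ := exists_factor (toVertex (fstF z) (Over.mk k)) m
    (eqToHom (obj_base (fstF z) (Over.mk k)).symm) (by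
      rw [toVertex_base]
      change _ = k' ≫ f
      simp [← hk])
  have hl' : (SpQuotSt Scheme.fppfPrecoverage G aX).p.IsHomLift (𝟙 T) l := IsHomLift.of_fac' _ _ _ rfl (obj_base (fstF z) (Over.mk k)) (by
    change l.base = _
    simp [hl])
  exact ⟨l, BasedBasic.isIso_of_isHomLift_id (isFibGrpd (K := Scheme.fppfPrecoverage) (aX := aX)) (R := T) l,
    by rw [hlm]; exact point_ofPoint _ _ _ _ _, hl⟩

/-- The trivialisation of the first object. -/
noncomputable def localIso {T : Over S} (k' : T ⟶ T') (k : T ⟶ U)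
    (hk : k' ≫ f ≫ eqToHom (vertex_base (fstF z)) = k) :
    trivObj Scheme.fppfPrecoverage aX (localPt z s k' ≫ (vertex (fstF z)).φ) ⟶ (fstF z).obj (Over.mk k) :=
  (exists_localIso z f s hs k' k hk).choose

/-- The point of the second torsor attached to an isomorphism. -/
noncomputable def pointOf {T : Over S} (x : Isom z T) (k' : T ⟶ T')
    (hk : k' ≫ f ≫ eqToHom (vertex_base (fstF z)) = x.k) : (yon S).obj T ⟶ (vertex (sndF z)).P.left :=
  (point (localIso z f s hs k' x.k hk ≫ x.φ)).left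

theorem pointOf_π {T : Over S} (x : Isom z T) (k' : T ⟶ T')
    (hk : k' ≫ f ≫ eqToHom (vertex_base (fstF z)) = x.k) :
    pointOf z f s hs x k' hk ≫ (vertex (sndF z)).π.left =
      (yon S).map (x.k ≫ eqToHom (vertex_base (sndF z)).symm) := by
  rw [pointOf, point_π_left, SpQuotObj.comp_base, x.base, localIso,
    (exists_localIso z f s hs k' x.k hk).choose_spec.2.2]
  simp

theorem pointOf_injective {T : Over S} (x y : Isom z T) (k' : T ⟶ T')
    (hx : k' ≫ f ≫ eqToHom (vertex_base (fstF z)) = x.k) (hy : k' ≫ f ≫ eqToHom (vertex_base (fstF z)) = y.k)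
    (e : pointOf z f s hs x k' hx = pointOf z f s hs y k' hy) : x = y := by
  obtain ⟨kx, φx, bx⟩ := x
  obtain ⟨ky, φy, by'⟩ := y
  obtain rfl : kx = ky := hx.symm.trans hy
  haveI : IsIso (localIso z f s hs k' kx hx) := (exists_localIso z f s hs k' kx hx).choose_spec.1
  have e' := hom_ext_of_point (Over.OverMorphism.ext e)
  obtain rfl : φx = φy := (cancel_epi (localIso z f s hs k' kx hx)).1 e'
  rfl

include hXt in
theorem pointOf_map {T T₁ : Over S} (x : Isom z T) (g : T₁ ⟶ T) (k' : T ⟶ T')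
    (hk : k' ≫ f ≫ eqToHom (vertex_base (fstF z)) = x.k)
    (hk₁ : (g ≫ k') ≫ f ≫ eqToHom (vertex_base (fstF z)) = (x.restr g).k) :
    pointOf z f s hs (x.restr g) (g ≫ k') hk₁ = (yon S).map g ≫ pointOf z f s hs x k' hk := by
  let l := localIso z f s hs k' x.k hk
  let l₁ := localIso z f s hs (g ≫ k') (x.restr g).k hk₁
  have hl : point (l ≫ toVertex (fstF z) (Over.mk x.k)) = localPt z s k' :=
    (exists_localIso z f s hs k' x.k hk).choose_spec.2.1
  have hl₁ : point (l₁ ≫ toVertex (fstF z) (Over.mk (x.restr g).k)) = localPt z s (g ≫ k') :=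
    (exists_localIso z f s hs (g ≫ k') (x.restr g).k hk₁).choose_spec.2.1
  have hlb : l.base = eqToHom (obj_base (fstF z) (Over.mk x.k)).symm :=
    (exists_localIso z f s hs k' x.k hk).choose_spec.2.2
  have hl₁b : l₁.base = eqToHom (obj_base (fstF z) (Over.mk (x.restr g).k)).symm :=
    (exists_localIso z f s hs (g ≫ k') (x.restr g).k hk₁).choose_spec.2.2
  have wb : (yon S).map g ≫ ((yon S).map k' ≫ s) ≫ (vertex (fstF z)).P.hom =
      ((yon S).map (g ≫ k') ≫ s) ≫ (vertex (fstF z)).P.hom := by simp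
  let σ := trivMap (K := Scheme.fppfPrecoverage) (aX := aX) (x := localPt z s k' ≫ (vertex (fstF z)).φ)
    (x' := localPt z s (g ≫ k') ≫ (vertex (fstF z)).φ) g wb (hXt _ _)
  let ψ : Over.mk (x.restr g).k ⟶ Over.mk x.k := Over.homMk g rfl
  have key : l₁ ≫ (fstF z).map ψ = σ ≫ l := by
    obtain ⟨m, -, hu⟩ := exists_factor (toVertex (fstF z) (Over.mk x.k))
      ((σ ≫ l) ≫ toVertex (fstF z) (Over.mk x.k)) (σ ≫ l).base rfl
    refine (hu _ ⟨?_, ?_⟩).trans (hu _ ⟨rfl, rfl⟩).symm
    · rw [SpQuotObj.comp_base, SpQuotObj.comp_base, hl₁b, hlb, map_base']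
      simp [σ, trivMap, ψ]
    · refine ((Category.assoc _ _ _).trans (congrArg (l₁ ≫ ·) (map_toVertex _ ψ))).trans ?_
      apply hom_ext_of_point
      refine hl₁.trans ?_
      refine Eq.trans ?_ ((congrArg point (Category.assoc σ l _)).trans
        ((point_trivMap_comp _ _ _ _).trans (congrArg (_ ≫ ·) hl))).symm
      apply Over.OverMorphism.ext
      simp [localPt, bHom]
  change (point (l₁ ≫ (fstF z).map ψ ≫ x.φ)).left = _
  rw [reassoc_of% key, point_trivMap_comp]
  rfl

include hBt hXt in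
theorem exists_of_point {T : Over S} (p : (yon S).obj T ⟶ (vertex (sndF z)).P.left) (k' : T ⟶ T')
    (hp : p ≫ (vertex (sndF z)).π.left ≫ (yon S).map (eqToHom (vertex_base (sndF z))) =
      (yon S).map (k' ≫ f ≫ eqToHom (vertex_base (fstF z)))) :
    ∃ (x : Isom z T) (hk : k' ≫ f ≫ eqToHom (vertex_base (fstF z)) = x.k), pointOf z f s hs x k' hk = p := by
  let k := k' ≫ f ≫ eqToHom (vertex_base (fstF z))
  let l := localIso z f s hs k' k rfl
  haveI : IsIso l := (exists_localIso z f s hs k' k rfl).choose_spec.1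
  have hlb : l.base = eqToHom (obj_base (fstF z) (Over.mk k)).symm :=
    (exists_localIso z f s hs k' k rfl).choose_spec.2.2
  let p' : Over.mk (((yon S).map k' ≫ s) ≫ (vertex (fstF z)).P.hom) ⟶ (vertex (sndF z)).P :=
    Over.homMk p (hBt _ _)
  let f₂ : T ⟶ (vertex (sndF z)).base := k ≫ eqToHom (vertex_base (sndF z)).symm
  let m : trivObj Scheme.fppfPrecoverage aX (localPt z s k' ≫ (vertex (fstF z)).φ) ⟶ vertex (sndF z) :=
    ofPoint f₂ (hBt _ _) p' (Over.OverMorphism.ext (by
      change p ≫ _ = (yon S).map f₂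
      rw [← cancel_mono ((yon S).map (eqToHom (vertex_base (sndF z)))), Category.assoc, hp, ← Functor.map_comp]
      simp [f₂, k])) (hXt _ _)
  refine ⟨⟨k, inv l ≫ m, ?_⟩, rfl, ?_⟩
  · have h1 : (inv l).base = eqToHom (obj_base (fstF z) (Over.mk k)) := by
      have h2 := congrArg SpQuotObj.Hom.base (IsIso.inv_hom_id l)
      rw [SpQuotObj.comp_base, SpQuotObj.id_base, hlb] at h2
      rw [← cancel_mono (eqToHom (obj_base (fstF z) (Over.mk k)).symm), h2]
      simp
    rw [SpQuotObj.comp_base, h1]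
    rfl
  · change (point (l ≫ inv l ≫ m)).left = p
    rw [IsIso.hom_inv_id_assoc, point_ofPoint]
    rfl

include hBt hXt hs in
theorem exists_isPullback_local :
    ∃ t : pullback ((vertex (sndF z)).π.left ≫ (yon S).map (eqToHom (vertex_base (sndF z))))
        ((yon S).map (f ≫ eqToHom (vertex_base (fstF z)))) ⟶ isomSh z,
      IsPullback t (pullback.snd _ _) (isomHom z) ((yon S).map (f ≫ eqToHom (vertex_base (fstF z)))) := by
  let β := (vertex (sndF z)).π.left ≫ (yon S).map (eqToHom (vertex_base (sndF z)))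
  let g₀ := (yon S).map (f ≫ eqToHom (vertex_base (fstF z)))
  let kk := fun {T : Over S} (c : (yon S).obj T ⟶ pullback β g₀) => (yon S).preimage (c ≫ pullback.snd β g₀)
  have hkk : ∀ {T : Over S} (c : (yon S).obj T ⟶ pullback β g₀),
      (c ≫ pullback.fst β g₀) ≫ (vertex (sndF z)).π.left ≫ (yon S).map (eqToHom (vertex_base (sndF z))) =
        (yon S).map (kk c ≫ f ≫ eqToHom (vertex_base (fstF z))) := fun c => by
    refine ((Category.assoc _ _ _).trans (congrArg (c ≫ ·) pullback.condition)).trans ?_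
    rw [Functor.map_comp, (yon S).map_preimage, Category.assoc]
  choose x hx hxp using fun (T : Over S) (c : (yon S).obj T ⟶ pullback β g₀) =>
    exists_of_point z hBt hXt f s hs (c ≫ pullback.fst β g₀) (kk c) (hkk c)
  have hnat : ∀ {T T₁ : Over S} (g : T₁ ⟶ T) (c : (yon S).obj T ⟶ pullback β g₀),
      x T₁ ((yon S).map g ≫ c) = (x T c).restr g := fun {T T₁} g c => by
    have e : kk ((yon S).map g ≫ c) = g ≫ kk c := (yon S).map_injective (by
      rw [Functor.map_comp, (yon S).map_preimage, (yon S).map_preimage, Category.assoc])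
    have hy : kk ((yon S).map g ≫ c) ≫ f ≫ eqToHom (vertex_base (fstF z)) = ((x T c).restr g).k := by
      rw [e, Category.assoc, hx T c]; rfl
    refine pointOf_injective z f s hs _ _ (kk ((yon S).map g ≫ c)) (hx _ _) hy ((hxp _ _).trans ?_)
    symm
    generalize_proofs at hy ⊢
    revert hy
    rw [e]
    intro hy
    rw [pointOf_map z hXt f s hs (x T c) g (kk c) (hx T c), hxp T c, Category.assoc]
  let t : pullback β g₀ ⟶ isomSh z :=
    homMkYon (fun T c => (secEquiv (F := isomSh z) T).symm (x T c)) fun {T T₁} g c => by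
      rw [hnat g c, yon_map_comp_secEquiv_symm]
      rfl
  have ht : ∀ {T : Over S} (c : (yon S).obj T ⟶ pullback β g₀),
      c ≫ t = (secEquiv (F := isomSh z) T).symm (x T c) := fun c => by
    apply comp_homMkYon
  refine ⟨t, isPullback_of_yon (Groth.Agent.Lib.AlgSpace.hom_ext fun T c => ?_) (fun T c c' h₁ h₂ => ?_)
    fun T a b h => ?_⟩
  · rw [← Category.assoc, ht, comp_isomHom, ← hx T c, Functor.map_comp, (yon S).map_preimage, Category.assoc]
  · rw [ht, ht] at h₁
    have e := (secEquiv (F := isomSh z) T).symm.injective h₁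
    have ek : kk c = kk c' := congrArg (yon S).preimage h₂
    refine pullback.hom_ext ?_ h₂
    rw [← hxp T c, ← hxp T c']
    congr 1
  · let σ : Isom z T := secEquiv (F := isomSh z) T a
    have hσ : (yon S).preimage b ≫ f ≫ eqToHom (vertex_base (fstF z)) = σ.k := (yon S).map_injective (by
      rw [← comp_isomHom z σ, Functor.map_comp, (yon S).map_preimage]
      simp only [σ, Equiv.symm_apply_apply, h])
    let c := pullback.lift (pointOf z f s hs σ _ hσ) b (show _ ≫ β = b ≫ g₀ by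
      rw [← Category.assoc, pointOf_π, ← Functor.map_comp, Category.assoc, eqToHom_trans, eqToHom_refl,
        Category.comp_id, ← hσ, Functor.map_comp, (yon S).map_preimage])
    refine ⟨c, ?_, pullback.lift_snd _ _ _⟩
    rw [ht]
    apply (secEquiv (F := isomSh z) T).injective
    rw [Equiv.apply_symm_apply]
    have ek : kk c = (yon S).preimage b := by simp only [kk, c, pullback.lift_snd]
    refine pointOf_injective z f s hs _ σ (kk c) (hx T c) (ek ▸ hσ) ((hxp T c).trans ?_)
    simp only [c, pullback.lift_fst]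
    congr 1
    exact ek.symm

end Local

/-- The diagonal of the classifying stack is representable with a property satisfied by all torsors. -/
theorem repByAlgSpWith_diag {P : MorphismProperty (Sp S)} [P.IsStableUnderBaseChange]
    (hloc : AlgSp.IsLocalOnBase AlgSp.IsFppfCover P)
    (hBt : ∀ {T : Over S} (f g : (yon S).obj T ⟶ B), f = g) (hXt : ∀ {M : Over B} (f g : M ⟶ X), f = g)
    (hA : ∀ A : SpQuotObj Scheme.fppfPrecoverage G aX, IsAlgSpace A.P.left)
    (hP : ∀ (A : SpQuotObj Scheme.fppfPrecoverage G aX) ⦃U : Over S⦄ (e : A.base = U),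
      P (A.π.left ≫ (yon S).map (eqToHom e))) :
    RepByAlgSpWith P (FibCat.diag (toSelf (SpQuotSt Scheme.fppfPrecoverage G aX))) := by
  intro U z
  obtain ⟨e, he, hfst⟩ := exists_equiv_isom z
  obtain ⟨T', f, s, hf, hsurj, hs⟩ := exists_sections (vertex (fstF z))
  let f' := fun x => f x ≫ eqToHom (vertex_base (fstF z))
  have hcov : AlgSp.IsFppfCover (fun x => (yon S).obj (T' x)) (fun x => (yon S).map (f' x)) :=
    isFppfCover_yon T' f' (fun x => by
      obtain ⟨h1, h2⟩ := hf x
      exact ⟨(inferInstance : Flat ((f x).left ≫ (eqToHom (vertex_base (fstF z))).left)),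
        (inferInstance : LocallyOfFinitePresentation ((f x).left ≫ (eqToHom (vertex_base (fstF z))).left))⟩)
      fun y => ⟨(eqToHom (vertex_base (fstF z)).symm).left y, by
        obtain ⟨w, hw⟩ := hsurj ((eqToHom (vertex_base (fstF z)).symm).left y)
        refine ⟨w, ?_⟩
        simp only [f', Over.comp_left, Scheme.Hom.comp_apply, hw]
        rw [← Scheme.Hom.comp_apply, ← Over.comp_left, eqToHom_trans, eqToHom_refl]
        rfl⟩
  choose t ht using fun x => exists_isPullback_local z hBt hXt (f x) (s x) (hs x)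
  have hJ : ∀ x, IsAlgSpace (pullback ((vertex (sndF z)).π.left ≫ (yon S).map (eqToHom (vertex_base (sndF z))))
      ((yon S).map (f' x))) := fun x =>
    isAlgSpace_of_isPullback (IsPullback.of_hasPullback _ _) (IsAlgSpace.yon_obj U).diag (hA _)
      (IsAlgSpace.yon_obj (T' x))
  have hI : IsAlgSpace (isomSh z) := Bootstrap.isAlgSpace_of_fppfCover_family (IsAlgSpace.yon_obj U)
    (fun x => IsAlgSpace.yon_obj (T' x)) hcov (isomHom z) fun x => (hJ x).of_iso (ht x).isoPullback
  have hq : P (isomHom z) := (hloc _ _ (IsAlgSpace.yon_obj U) (fun x => IsAlgSpace.yon_obj (T' x)) hcov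
    (isomHom z) hI _ (fun x => pullback.snd _ _) t hJ ht).2 fun x =>
      P.pullback_snd _ _ (hP _ (vertex_base (sndF z)))
  refine ⟨⟨isomSh z, hI⟩, e, he, ?_⟩
  have h : spMapOfOver (BasedFunctor.comp e (fpFst z (FibCat.diag (toSelf (SpQuotSt Scheme.fppfPrecoverage G aX))))) = isomHom z := by
    ext T x
    refine Eq.trans (b := (⟨AlgSt.secHom _ ⟨T.unop, x⟩⟩ : ULift _)) rfl ?_
    refine congrArg ULift.up ?_
    have h1 : (BasedFunctor.comp e (fpFst z (FibCat.diag (toSelf (SpQuotSt Scheme.fppfPrecoverage G aX))))).obj ⟨T.unop, x⟩ =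
        Over.mk (show Isom z T.unop from x).k := hfst ⟨T.unop, x⟩
    rw [AlgSt.secHom]
    generalize_proofs h2
    revert h2
    generalize (BasedFunctor.comp e (fpFst z (FibCat.diag (toSelf (SpQuotSt Scheme.fppfPrecoverage G aX))))).obj ⟨T.unop, x⟩ = c at h1
    intro h2
    subst h1
    exact Category.id_comp _
  exact h ▸ hq

end Groth.Agent.Lib.SpQuot
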