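import Groth.Prelude.Def_AlgSt6
import Groth.Agent.Lib.Fibred.Descent
import Groth.Agent.Lib.AlgSpace.Local

/-!
# Gluing morphisms of sheaves over a base scheme along a covering sieve

For a covering sieve `R` of `U` and a sheaf `M` over `h_U`, morphisms out of `M` are given by compatible
families on the base changes of `M` to the members of `R`.
-/

set_option autoImplicit false
set_option backward.isDefEq.respectTransparency false
set_option backward.isDefEq.respectTransparency.types false

universe u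

open CategoryTheory CategoryTheory.Limits MonoidalCategory CartesianMonoidalCategory AlgebraicGeometry Opposite

namespace Groth.Agent.Lib.SpQuot

open AlgSp (Sp yon)
open Groth.Agent.Lib.AlgSpace

variable {S : Scheme.{u}} {U : Over S} {R : Sieve U}

/-- Maps `h_V ⟶ N` compatible on a covering sieve glue uniquely. -/
theorem exists_glue {T : Over S} {R : Sieve T} (hR : R ∈ AlgSp.J S T) {N : Sp S}
    (c : ∀ ⦃V : Over S⦄ (f : V ⟶ T), R f → ((yon S).obj V ⟶ N))
    (hc : ∀ ⦃V V' : Over S⦄ (g : V' ⟶ V) (f : V ⟶ T) (hf : R f),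
      (yon S).map g ≫ c f hf = c (g ≫ f) (R.downward_closed hf g)) :
    ∃! a : (yon S).obj T ⟶ N, ∀ ⦃V : Over S⦄ (f : V ⟶ T) (hf : R f), (yon S).map f ≫ a = c f hf := by
  have hs := (((isSheaf_iff_isSheaf_of_type _ _).1 N.property) R hR)
  obtain ⟨t, ht, hu⟩ := hs (fun V f hf => secEquiv V (c f hf))
    ((Presieve.compatible_iff_sieveCompatible _).2 fun V' V f g hf => by
      rw [← secEquiv_map, hc g f hf])
  refine ⟨(secEquiv T).symm t, fun V f hf => ?_, fun a ha => ?_⟩
  · rw [yon_map_comp_secEquiv_symm, ht f hf, Equiv.symm_apply_apply]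
  · rw [Equiv.eq_symm_apply]
    exact hu _ fun V f hf => by rw [← secEquiv_map, ha f hf]

theorem hom_ext_of_sieve {T : Over S} {R : Sieve T} (hR : R ∈ AlgSp.J S T) {N : Sp S}
    {a b : (yon S).obj T ⟶ N}
    (e : ∀ ⦃V : Over S⦄ (f : V ⟶ T), R f → (yon S).map f ≫ a = (yon S).map f ≫ b) : a = b :=
  (exists_glue hR (fun _ f _ => (yon S).map f ≫ a) fun _ _ g f _ => by
    rw [← Category.assoc, ← Functor.map_comp]).unique (fun _ _ _ => rfl) fun _ f hf => (e f hf).symm

/-- The member of the sieve category of an arrow in the sieve. -/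
def mem {V : Over S} (f : V ⟶ U) (hf : R f) : (Stk.sieveCat R).obj := ⟨Over.mk f, hf⟩

/-- The morphism of the sieve category over a morphism of the sources. -/
def arr {a b : (Stk.sieveCat R).obj} (v : a.obj.left ⟶ b.obj.left) (h : v ≫ b.obj.hom = a.obj.hom) : a ⟶ b :=
  ObjectProperty.homMk (Over.homMk v h)

theorem arr_ext {a b : (Stk.sieveCat R).obj} {m n : a ⟶ b} (h : m.hom.left = n.hom.left) : m = n :=
  ObjectProperty.hom_ext _ (Over.OverMorphism.ext h)

variable {B : Sp S}

/-- A base change of a sheaf `M` over `h_U` to the members of a sieve. -/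
structure Bc (R : Sieve U) {M : Over B} (μ : M.left ⟶ (yon S).obj U) where
  /-- the base change -/
  obj : (Stk.sieveCat R).obj → Over B
  /-- its map to `M` -/
  «ι» : ∀ a, obj a ⟶ M
  /-- its map to the member -/
  proj : ∀ a, (obj a).left ⟶ (yon S).obj a.obj.left
  isPullback : ∀ a, IsPullback («ι» a).left (proj a) μ ((yon S).map a.obj.hom)

namespace Bc

variable {M : Over B} {μ : M.left ⟶ (yon S).obj U}

/-- The transition maps. -/
noncomputable def map (β : Bc R μ) {a b : (Stk.sieveCat R).obj} (m : a ⟶ b) : β.obj a ⟶ β.obj b :=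
  Over.homMk ((β.isPullback b).lift (β.ι a).left (β.proj a ≫ (yon S).map m.hom.left) (by
      rw [(β.isPullback a).w, Category.assoc, ← Functor.map_comp, Over.w m.hom])) (by
    rw [← Over.w (β.ι b), ← Category.assoc, IsPullback.lift_fst, Over.w])

@[reassoc]
theorem map_ι (β : Bc R μ) {a b : (Stk.sieveCat R).obj} (m : a ⟶ b) : β.map m ≫ β.ι b = β.ι a :=
  Over.OverMorphism.ext ((β.isPullback b).lift_fst _ _ _)

@[reassoc]
theorem map_proj (β : Bc R μ) {a b : (Stk.sieveCat R).obj} (m : a ⟶ b) :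
    (β.map m).left ≫ β.proj b = β.proj a ≫ (yon S).map m.hom.left :=
  (β.isPullback b).lift_snd _ _ _

theorem hom_ext' (β : Bc R μ) {N : Over B} {a : (Stk.sieveCat R).obj} {x y : N ⟶ β.obj a}
    (h₁ : x ≫ β.ι a = y ≫ β.ι a) (h₂ : x.left ≫ β.proj a = y.left ≫ β.proj a) : x = y :=
  Over.OverMorphism.ext ((β.isPullback a).hom_ext congr($(h₁).left) h₂)

/-- The base of a point. -/
noncomputable def base (μ : M.left ⟶ (yon S).obj U) {Z : Over S} (m : (yon S).obj Z ⟶ M.left) : Z ⟶ U :=
  (yon S).preimage (m ≫ μ)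

theorem base_spec {Z : Over S} (m : (yon S).obj Z ⟶ M.left) : (yon S).map (base μ m) = m ≫ μ :=
  (yon S).map_preimage _

theorem base_map {Z Z' : Over S} (g : Z' ⟶ Z) (m : (yon S).obj Z ⟶ M.left) :
    base μ ((yon S).map g ≫ m) = g ≫ base μ m :=
  (yon S).map_injective (by rw [Functor.map_comp, base_spec, base_spec, Category.assoc])

theorem ext_left (hR : R ∈ AlgSp.J S U) (β : Bc R μ) {N : Sp S} {x y : M.left ⟶ N}
    (h : ∀ a, (β.ι a).left ≫ x = (β.ι a).left ≫ y) : x = y := by
  refine Groth.Agent.Lib.AlgSpace.hom_ext fun Z m => ?_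
  refine hom_ext_of_sieve ((AlgSp.J S).pullback_stable (base μ m) hR) fun V v hv => ?_
  let a : (Stk.sieveCat R).obj := mem (v ≫ base μ m) hv
  have e : (β.isPullback a).lift ((yon S).map v ≫ m) (𝟙 _) (by
      rw [Category.id_comp, Category.assoc, ← base_spec, ← Functor.map_comp]; rfl) ≫ (β.ι a).left =
      (yon S).map v ≫ m := IsPullback.lift_fst _ _ _ _
  exact (Category.assoc _ _ _).symm.trans ((congrArg (· ≫ x) e).symm.trans ((Category.assoc _ _ _).trans
    ((congrArg (_ ≫ ·) (h a)).trans ((Category.assoc _ _ _).symm.trans ((congrArg (· ≫ y) e).trans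
      (Category.assoc _ _ _))))))

/-- Morphisms out of `M` are determined on the base changes. -/
theorem ext (hR : R ∈ AlgSp.J S U) (β : Bc R μ) {N : Over B} {x y : M ⟶ N}
    (h : ∀ a, β.ι a ≫ x = β.ι a ≫ y) : x = y :=
  Over.OverMorphism.ext (β.ext_left hR fun a => congr($(h a).left))

/-- Compatible morphisms on the base changes glue. -/
theorem exists_desc (hR : R ∈ AlgSp.J S U) (β : Bc R μ) {N : Over B} (ψ : ∀ a, β.obj a ⟶ N)
    (hψ : ∀ ⦃a b : (Stk.sieveCat R).obj⦄ (m : a ⟶ b), β.map m ≫ ψ b = ψ a) :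
    ∃ Ψ : M ⟶ N, ∀ a, β.ι a ≫ Ψ = ψ a := by
  let pt := fun {Z : Over S} (m : (yon S).obj Z ⟶ M.left) (a : (Stk.sieveCat R).obj) (k : Z ⟶ a.obj.left)
      (hk : k ≫ a.obj.hom = base μ m) =>
    (β.isPullback a).lift m ((yon S).map k) (by rw [← base_spec, ← Functor.map_comp, hk]) ≫ (ψ a).left
  have key : ∀ {Z : Over S} (m : (yon S).obj Z ⟶ M.left) (a : (Stk.sieveCat R).obj) (k : Z ⟶ a.obj.left)
      (hk : k ≫ a.obj.hom = base μ m) (hm : R (base μ m)),
      pt m a k hk = pt m (mem (base μ m) hm) (𝟙 Z) (Category.id_comp _) := by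
    intro Z m a k hk hm
    simp only [pt]
    rw [← hψ (arr k hk : mem (base μ m) hm ⟶ a), Over.comp_left, ← Category.assoc]
    congr 1
    apply (β.isPullback a).hom_ext
    · rw [IsPullback.lift_fst, Category.assoc, ← Over.comp_left, map_ι, IsPullback.lift_fst]
    · rw [IsPullback.lift_snd, Category.assoc, map_proj, ← Category.assoc, IsPullback.lift_snd,
        ← Functor.map_comp]
      exact congrArg _ (Category.id_comp k).symm
  have nat : ∀ {Z Z' : Over S} (g : Z' ⟶ Z) (m : (yon S).obj Z ⟶ M.left) (hm : R (base μ m))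
      (hm' : R (base μ ((yon S).map g ≫ m))),
      (yon S).map g ≫ pt m (mem (base μ m) hm) (𝟙 Z) (Category.id_comp _) =
        pt ((yon S).map g ≫ m) (mem (base μ ((yon S).map g ≫ m)) hm') (𝟙 Z') (Category.id_comp _) := by
    intro Z Z' g m hm hm'
    rw [← key ((yon S).map g ≫ m) (mem (base μ m) hm) g (base_map g m).symm hm']
    simp only [pt, ← Category.assoc]
    congr 1
    apply (β.isPullback _).hom_ext
    · rw [Category.assoc, IsPullback.lift_fst, IsPullback.lift_fst]
    · rw [Category.assoc, IsPullback.lift_snd, IsPullback.lift_snd, ← Functor.map_comp]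
      exact congrArg _ (Category.comp_id g)
  have hcov {Z : Over S} (m : (yon S).obj Z ⟶ M.left) := (AlgSp.J S).pullback_stable (base μ m) hR
  have hb {Z V : Over S} (m : (yon S).obj Z ⟶ M.left) (v : V ⟶ Z) (hv : R (v ≫ base μ m)) :
      R (base μ ((yon S).map v ≫ m)) := by rwa [base_map]
  choose Φ hΦ hΦu using fun (Z : Over S) (m : (yon S).obj Z ⟶ M.left) =>
    exists_glue (hcov m) (fun V v hv => pt ((yon S).map v ≫ m) (mem _ (hb m v hv)) (𝟙 V) (Category.id_comp _))
      fun V V' g v hv => by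
        have e : (yon S).map (g ≫ v) ≫ m = (yon S).map g ≫ (yon S).map v ≫ m := by
          rw [Functor.map_comp, Category.assoc]
        refine (nat g _ (hb m v hv) (by rw [← e]; exact hb m _ (Sieve.downward_closed _ hv g))).trans ?_
        congr 1 <;> first | exact e.symm | skip
  have natΦ : ∀ {Z Z' : Over S} (g : Z' ⟶ Z) (m : (yon S).obj Z ⟶ M.left),
      Φ Z' ((yon S).map g ≫ m) = (yon S).map g ≫ Φ Z m := by
    intro Z Z' g m
    symm
    refine hΦu Z' _ _ fun V v hv => ?_
    have hv' : R ((v ≫ g) ≫ base μ m) := by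
      have hv'' : R (v ≫ base μ ((yon S).map g ≫ m)) := hv
      rwa [base_map, ← Category.assoc] at hv''
    rw [← Category.assoc, ← Functor.map_comp, hΦ Z m (v ≫ g) hv']
    have e : (yon S).map (v ≫ g) ≫ m = (yon S).map v ≫ (yon S).map g ≫ m := by
      rw [Functor.map_comp, Category.assoc]
    congr 1 <;> first | exact e | skip
  let F : M.left ⟶ N.left := homMkYon Φ natΦ
  have hF : ∀ a, (β.ι a).left ≫ F = (ψ a).left := by
    intro a
    refine Groth.Agent.Lib.AlgSpace.hom_ext fun Z x => ?_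
    let k : Z ⟶ a.obj.left := (yon S).preimage (x ≫ β.proj a)
    have hk : k ≫ a.obj.hom = base μ (x ≫ (β.ι a).left) :=
      (yon S).map_injective (by
        rw [Functor.map_comp, (yon S).map_preimage, base_spec, Category.assoc, Category.assoc,
          (β.isPullback a).w])
    rw [← Category.assoc, comp_homMkYon]
    symm
    refine hΦu Z _ _ fun V v hv => ?_
    have e : (yon S).map v ≫ x ≫ (β.ι a).left = ((yon S).map v ≫ x) ≫ (β.ι a).left := (Category.assoc _ _ _).symm
    have hvk : (v ≫ k) ≫ a.obj.hom = base μ ((yon S).map v ≫ x ≫ (β.ι a).left) := by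
      rw [base_map, Category.assoc, hk]
    refine Eq.trans ?_ (key _ a (v ≫ k) hvk (hb _ v hv))
    simp only [pt, ← Category.assoc]
    congr 1
    apply (β.isPullback a).hom_ext
    · rw [IsPullback.lift_fst]
    · rw [IsPullback.lift_snd, Functor.map_comp, (yon S).map_preimage, Category.assoc]
  refine ⟨Over.homMk F ?_, fun a => Over.OverMorphism.ext (hF a)⟩
  refine β.ext_left hR fun a => ?_
  rw [← Category.assoc, hF, Over.w, Over.w]

variable (R μ) in
/-- The chosen base change. -/
noncomputable def ofPullback : Bc R μ where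
  obj a := Over.mk (pullback.fst μ ((yon S).map a.obj.hom) ≫ M.hom)
  «ι» a := Over.homMk (pullback.fst μ ((yon S).map a.obj.hom))
  proj a := pullback.snd μ ((yon S).map a.obj.hom)
  isPullback a := IsPullback.of_hasPullback μ ((yon S).map a.obj.hom)

/-- The base change of `Y ⊗ M` from one of `M`. -/
noncomputable def whisker (β : Bc R μ) (Y : Over B) : Bc R ((snd Y M).left ≫ μ) where
  obj a := Y ⊗ β.obj a
  «ι» a := Y ◁ β.ι a
  proj a := (snd Y (β.obj a)).left ≫ β.proj a
  isPullback a := ((AlgSt.isPullback_whiskerLeft' (G := Y) (β.ι a)).map (Over.forget B)).paste_vert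
    (β.isPullback a)

theorem whisker_map (β : Bc R μ) (Y : Over B) {a b : (Stk.sieveCat R).obj} (m : a ⟶ b) :
    (β.whisker Y).map m = Y ◁ β.map m := by
  refine (β.whisker Y).hom_ext' ?_ ?_
  · rw [map_ι]
    change Y ◁ β.ι a = (Y ◁ β.map m) ≫ (Y ◁ β.ι b)
    rw [← MonoidalCategory.whiskerLeft_comp, map_ι]
  · rw [map_proj]
    change ((snd Y (β.obj a)).left ≫ β.proj a) ≫ _ = (Y ◁ β.map m).left ≫ (snd Y (β.obj b)).left ≫ β.proj b
    rw [← Category.assoc (Y ◁ β.map m).left, ← Over.comp_left, whiskerLeft_snd, Over.comp_left, Category.assoc,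
      Category.assoc, map_proj]

end Bc

end Groth.Agent.Lib.SpQuot
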