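import Groth.Agent.Lib.SpQuot.TorsorProp
import Groth.Agent.Lib.AlgSpMor.LocP
import Groth.Agent.Lib.AlgSpMor.Proper
import Groth.Agent.Lib.GrpSch.UnramifiedFibre
import Groth.Agent.Lib.EtSite.QuasiFiniteDescent
import Groth.Prelude.Def_AlgSpGpd
import Mathlib.AlgebraicGeometry.Morphisms.LocalFlatDescent

/-!
# Fibrewise properties pass from a group to its pseudo-torsors
-/

set_option autoImplicit false
set_option backward.isDefEq.respectTransparency false
set_option backward.isDefEq.respectTransparency.types false

universe u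

open CategoryTheory CategoryTheory.Limits MonoidalCategory CartesianMonoidalCategory AlgebraicGeometry

namespace Groth.Agent.Lib.SpQuot

open AlgSp (Sp yon GAction IsAlgSpace RepWith LocP)
open Groth.Agent.Lib.AlgSpace
open Groth.Agent.Lib.SourceDescent.Scheme (EtaleLocalST)

/-- The fibres of a morphism inherit descending properties of its kernel pair. -/
theorem fiber_of_snd {P : MorphismProperty Scheme.{u}} [P.IsStableUnderBaseChange]
    [P.DescendsAlong (@Surjective ⊓ @Flat ⊓ @QuasiCompact)] {U V : Scheme.{u}} (h : U ⟶ V)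
    (hP : P (pullback.snd h h)) (v : V) (hv : v ∈ Set.range h) : P (h.fiberToSpecResidueField v) := by
  obtain ⟨u, rfl⟩ := hv
  let e := Spec.map (h.residueFieldMap u)
  have : Flat e := by
    have : RingHom.Flat (h.residueFieldMap u).hom := by
      letI := (h.residueFieldMap u).hom.toAlgebra
      rw [RingHom.Flat]
      infer_instance
    exact HasRingHomProperty.Spec_iff.2 this
  have : Surjective e := ⟨fun p => ⟨IsLocalRing.closedPoint _, Subsingleton.elim _ _⟩⟩
  have : QuasiCompact e := inferInstance
  have h1 : P (pullback.snd h (e ≫ V.fromSpecResidueField (h u))) := by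
    rw [Scheme.Hom.SpecMap_residueFieldMap_fromSpecResidueField, ← pullbackLeftPullbackSndIso_inv_snd_snd,
      MorphismProperty.cancel_left_of_respectsIso P]
    exact P.pullback_snd _ _ hP
  rw [← pullbackLeftPullbackSndIso_inv_snd_snd, MorphismProperty.cancel_left_of_respectsIso P] at h1
  exact MorphismProperty.of_isPullback_of_descendsAlong (P := P) (Q := @Surjective ⊓ @Flat ⊓ @QuasiCompact)
    (IsPullback.of_hasPullback (h.fiberToSpecResidueField (h u)) e).flip ⟨⟨‹Surjective e›, ‹Flat e›⟩, ‹QuasiCompact e›⟩ h1

variable {S : Scheme.{u}} {B : Sp S} {G X : Over B}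

/-- The kernel pair of a chart of a pseudo-torsor has the property of the group. -/
theorem prop_snd_of_chart [GrpObj G] {P : MorphismProperty Scheme.{u}} (hPl : EtaleLocalST P) (hB : IsAlgSpace B)
    (hG : IsAlgSpace G.left) (hX : IsAlgSpace X.left) (a : GAction G X) (ha : a.IsPseudoTorsor)
    (hP : LocP P G.hom) {U V : Over S} {p : (yon S).obj U ⟶ X.left} {q : (yon S).obj V ⟶ B} {h : U ⟶ V}
    (hp : RepWith @Etale p) (hq : RepWith @Etale q) (w : p ≫ X.hom = (yon S).map h ≫ q) :
    P (pullback.snd h.left h.left) := by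
  have hGX : IsAlgSpace (G ⊗ X).left := isAlgSpace_tensor hB hG X hX
  have hXX : IsAlgSpace (X ⊗ X).left := isAlgSpace_tensor hB hX X hX
  have h1 : LocP P (snd G X).left :=
    Lib.AlgSpMor.LocP.locP_of_isPullback hPl hG hB hX (isPullback_snd_left G X) hP
  have : IsIso (lift a.act (snd G X)) := ha
  let σ := lift a.act (snd G X)
  have h2 : LocP P (snd X X).left := by
    intro U' V' a' b' k ha' hb' w'
    refine h1 (a' ≫ (inv σ).left) b' k ?_ hb' ?_
    · have : IsIso (inv σ).left := inferInstanceAs (IsIso ((Over.forget B).map (inv σ)))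
      exact MorphismProperty.RespectsIso.postcomp _ (inv σ).left a' ha'
    · rw [Category.assoc, ← w', ← Over.comp_left]
      congr 2
      rw [IsIso.inv_comp_eq, lift_snd]
  let Q := pullback (pullback.snd X.hom q) ((yon S).map h)
  have hXV : IsAlgSpace (pullback X.hom q) :=
    isAlgSpace_of_isPullback (IsPullback.of_hasPullback _ _) hB.diag hX (IsAlgSpace.yon_obj V)
  have hQ : IsAlgSpace Q :=
    isAlgSpace_of_isPullback (IsPullback.of_hasPullback _ _) (IsAlgSpace.yon_obj V).diag hXV (IsAlgSpace.yon_obj U)
  have sq : IsPullback (pullback.fst (pullback.snd X.hom q) ((yon S).map h) ≫ pullback.fst X.hom q)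
      (pullback.snd (pullback.snd X.hom q) ((yon S).map h)) X.hom (p ≫ X.hom) := by
    rw [w]
    exact (IsPullback.of_hasPullback _ _).paste_horiz (IsPullback.of_hasPullback _ _)
  have sqX := isPullback_snd_left X X
  let l : Q ⟶ (X ⊗ X).left := sqX.lift (pullback.fst (pullback.snd X.hom q) ((yon S).map h) ≫ pullback.fst X.hom q)
    (pullback.snd (pullback.snd X.hom q) ((yon S).map h) ≫ p) (sq.w.trans (Category.assoc _ _ _).symm)
  have sq' : IsPullback l (pullback.snd (pullback.snd X.hom q) ((yon S).map h)) (snd X X).left p := by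
    have e : sq.w = sq.w := rfl
    exact IsPullback.of_right (by rw [sqX.lift_fst]; exact sq) (sqX.lift_snd _ _ _) sqX
  have h3 : LocP P (pullback.snd (pullback.snd X.hom q) ((yon S).map h)) :=
    Lib.AlgSpMor.LocP.locP_of_isPullback hPl hXX hX (IsAlgSpace.yon_obj U) sq' h2
  let p' : (yon S).obj U ⟶ pullback X.hom q := pullback.lift p ((yon S).map h) w
  have hp' : RepWith @Etale p' :=
    Lib.AlgSpMor.Proper.repWith_etale_of_comp (g := pullback.fst X.hom q) hXV.diag
      (repWith_baseChange (IsPullback.of_hasPullback X.hom q).flip hq) (by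
      rw [pullback.lift_fst]; exact hp)
  let W : Over S := Over.mk (pullback.fst h.left h.left ≫ U.hom)
  let w₁ : W ⟶ U := Over.homMk (pullback.fst h.left h.left) rfl
  let w₂ : W ⟶ U := Over.homMk (pullback.snd h.left h.left) (by
    change pullback.snd h.left h.left ≫ U.hom = pullback.fst h.left h.left ≫ U.hom
    rw [← Over.w h, ← Category.assoc, ← pullback.condition, Category.assoc])
  have sW : IsPullback w₁ w₂ h h :=
    IsPullback.of_map_of_faithful (Over.forget S) (IsPullback.of_hasPullback h.left h.left)
  let χ : (yon S).obj W ⟶ Q := pullback.lift ((yon S).map w₁ ≫ p') ((yon S).map w₂) (by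
    rw [Category.assoc, pullback.lift_snd]
    exact (isPullback_yon sW).w)
  have hχ : RepWith @Etale χ := by
    refine repWith_baseChange (IsPullback.of_bot (h₁₁ := (yon S).map w₁) ?_ ?_ (IsPullback.of_hasPullback (pullback.snd X.hom q) ((yon S).map h))) hp'
    · rw [pullback.lift_snd, pullback.lift_snd]
      exact isPullback_yon sW
    · exact (pullback.lift_fst _ _ _).symm
  exact h3 χ (𝟙 _) w₂ hχ (AlgSp.repWith_id _ _) (by rw [pullback.lift_snd, Category.comp_id])

end Groth.Agent.Lib.SpQuot
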