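import Groth.Prelude.Def_AlgSt
import Groth.Agent.Lib.AlgStack.Yoneda

/-!
# Equivalences from the category of a presheaf to a setoidal fibred category

In a setoidal category fibred in groupoids a morphism over a given morphism between given objects is unique,
so a functor out of the category of a presheaf is given by objects with the existence of the transition maps.
-/

set_option autoImplicit false
set_option backward.isDefEq.respectTransparency false
set_option backward.isDefEq.respectTransparency.types false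

universe w v₂ u₂ v u

open CategoryTheory Opposite

namespace Groth.Agent.Lib.SpQuot.RepTool

open AlgStack.Yoneda (Setoidal)
open AlgStack.BasedBasic

variable {C : Type u} [Category.{v} C] {𝒵 : BasedCategory.{v₂, u₂} C}

theorem hom_unique (hp : FibCat.IsFibGrpd 𝒵.p) (hs : Setoidal 𝒵) {a b : 𝒵.obj} (φ φ' : a ⟶ b)
    (h : 𝒵.p.map φ = 𝒵.p.map φ') : φ = φ' := by
  have := hp.isStronglyCartesian φ'
  have hl : 𝒵.p.IsHomLift (𝟙 (𝒵.p.obj a) ≫ 𝒵.p.map φ') φ := by
    rw [Category.id_comp, ← h]; infer_instance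
  obtain ⟨θ, ⟨hθ, e⟩, -⟩ := Functor.IsStronglyCartesian.universal_property' (p := 𝒵.p)
    (f := 𝒵.p.map φ') (φ := φ') (𝟙 (𝒵.p.obj a)) φ
  have hθ' : θ = 𝟙 a := hs a θ (by
    have := IsHomLift.fac' 𝒵.p (𝟙 (𝒵.p.obj a)) θ
    simpa using this)
  rw [hθ', Category.id_comp] at e
  exact e.symm

/-- An equivalence from the category of a presheaf, given on objects. -/
theorem exists_equiv {F : Cᵒᵖ ⥤ Type w} (hp : FibCat.IsFibGrpd 𝒵.p) (hs : Setoidal 𝒵)
    (obj : ∀ T : C, F.obj (op T) → 𝒵.obj) (hobj : ∀ T x, 𝒵.p.obj (obj T x) = T)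
    (hmap : ∀ {T T' : C} (g : T' ⟶ T) (x : F.obj (op T)),
      ∃ φ : obj T' (F.map g.op x) ⟶ obj T x, 𝒵.p.IsHomLift g φ)
    (hinj : ∀ (T : C) (x x' : F.obj (op T)) (φ : obj T x ⟶ obj T x'), 𝒵.p.IsHomLift (𝟙 T) φ → x = x')
    (hsurj : ∀ η : 𝒵.obj, ∃ (x : F.obj (op (𝒵.p.obj η))) (φ : obj _ x ⟶ η),
      𝒵.p.IsHomLift (𝟙 (𝒵.p.obj η)) φ) :
    ∃ e : Stk.ofPsh F ⥤ᵇ 𝒵, FibCat.IsEquivOver e ∧ ∀ a, e.obj a = obj a.base a.sec := by
  have hm : ∀ {a b : Stk.EltObj F} (f : a ⟶ b), ∃ φ : obj a.base a.sec ⟶ obj b.base b.sec,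
      𝒵.p.IsHomLift f.hom φ := fun {a b} f => by
    have h := hmap f.hom b.sec
    rwa [f.map_sec] at h
  choose m hm using @hm
  let e : Stk.ofPsh F ⥤ᵇ 𝒵 :=
    { toFunctor :=
        { obj := fun a => obj a.base a.sec
          map := fun {a b} f => m f
          map_id := fun a => hom_unique hp hs _ _ (by
            have := hm (𝟙 a)
            have h := IsHomLift.fac' 𝒵.p (𝟙 a : a ⟶ a).hom (m (𝟙 a))
            rw [CategoryTheory.Functor.map_id, h]
            simp)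
          map_comp := fun {a b c} f g => hom_unique hp hs _ _ (by
            have := hm f; have := hm g; have := hm (f ≫ g)
            rw [CategoryTheory.Functor.map_comp, IsHomLift.fac' 𝒵.p (f ≫ g).hom (m (f ≫ g)),
              IsHomLift.fac' 𝒵.p f.hom (m f), IsHomLift.fac' 𝒵.p g.hom (m g)]
            simp) }
      w := CategoryTheory.Functor.ext (fun a => hobj a.base a.sec) fun a b f => by
        have := hm f
        exact IsHomLift.fac' 𝒵.p f.hom (m f) }
  have : e.toFunctor.Faithful := ⟨fun {a b f g} h => Stk.EltObj.hom_ext (by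
    have e1 := CategoryTheory.Functor.congr_hom e.w f
    have e2 := CategoryTheory.Functor.congr_hom e.w g
    simp only [CategoryTheory.Functor.comp_map, h] at e1 e2
    exact (cancel_mono _).1 ((cancel_epi _).1 (e1.symm.trans e2)))⟩
  have : e.toFunctor.Full := ⟨fun {a b} φ => by
    let g : a.base ⟶ b.base := eqToHom (hobj _ _).symm ≫ 𝒵.p.map φ ≫ eqToHom (hobj _ _)
    have hφ : 𝒵.p.IsHomLift g φ := IsHomLift.of_fac' 𝒵.p g φ (hobj _ _) (hobj _ _) (by simp [g])
    obtain ⟨ψ, hψ⟩ := hmap g b.sec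
    have := hp.isStronglyCartesian ψ
    obtain ⟨θ, hθ, -⟩ : ∃ θ : obj a.base a.sec ⟶ obj a.base (F.map g.op b.sec),
        𝒵.p.IsHomLift (𝟙 a.base) θ ∧ θ ≫ ψ = φ := by
      have hc : 𝒵.p.IsStronglyCartesian g ψ := AlgStack.Yoneda.stronglyCartesian hp g ψ
      exact (Functor.IsStronglyCartesian.universal_property 𝒵.p g ψ (𝟙 a.base) g (by simp) φ).exists
    refine ⟨⟨g, (hinj _ _ _ θ hθ).symm⟩, hom_unique hp hs _ _ ?_⟩
    have := hm (⟨g, (hinj _ _ _ θ hθ).symm⟩ : a ⟶ b)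
    exact (IsHomLift.fac' 𝒵.p g (m _)).trans (IsHomLift.fac' 𝒵.p g φ).symm⟩
  refine ⟨e, isEquivOver_of e fun η => ?_, fun a => rfl⟩
  obtain ⟨x, φ, hφ⟩ := hsurj η
  have := isIso_of_isHomLift_id hp (R := 𝒵.p.obj η) φ
  exact ⟨⟨_, x⟩, asIso φ, hφ⟩

end Groth.Agent.Lib.SpQuot.RepTool
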