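import Groth.Agent.Lib.SpQuot.Space
import Groth.Agent.Lib.AlgSpFpqc.FppfCover
import Groth.Agent.Lib.AlgSpFpqc.Cover
import Groth.Agent.Lib.AlgSpMor.QC

/-!
# Properties of torsors inherited from the group
-/

set_option autoImplicit false
set_option backward.isDefEq.respectTransparency false
set_option backward.isDefEq.respectTransparency.types false

universe u

open CategoryTheory CategoryTheory.Limits MonoidalCategory CartesianMonoidalCategory MonObj GrpObj AlgebraicGeometry Opposite

namespace Groth.Agent.Lib.SpQuot

open AlgSp (Sp yon GAction IsAlgSpace)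
open AlgSt (SpQuotObj SpQuotSt bHom)
open Groth.Agent.Lib.AlgSpace
open Groth.Agent.Lib.AlgSpFpqc.Cover (StableBC)

variable {S : Scheme.{u}} {B : Sp S} {G X : Over B} [GrpObj G] {aX : GAction G X}

omit [GrpObj G] in
/-- The second projection of a product over `B` is a base change of the structure map. -/
theorem isPullback_snd_left (G M : Over B) : IsPullback (fst G M).left (snd G M).left G.hom M.hom := by
  have h := (AlgSt.isPullback_fst_snd' G M).map (Over.forget B)
  have e : ∀ (N : Over B), (toUnit N).left = N.hom := fun N => by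
    have := Over.w (toUnit N)
    exact (Category.comp_id _).symm.trans this
  simp only [Over.forget_map] at h
  rw [e, e] at h
  exact h

/-- A torsor inherits from the group every property that is stable under base change and fppf local. -/
theorem prop_torsor {P : MorphismProperty (Sp S)} (hB : IsAlgSpace B) (hG : IsAlgSpace G.left)
    (hloc : AlgSp.IsLocalOnBase AlgSp.IsFppfCover P) (hbc : StableBC P) (hP : P G.hom)
    (A : SpQuotObj Scheme.fppfPrecoverage G aX) ⦃U : Over S⦄ (e : A.base = U) :
    P (A.π.left ≫ (yon S).map (eqToHom e)) := by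
  subst e
  rw [eqToHom_refl, CategoryTheory.Functor.map_id]
  erw [Category.comp_id]
  obtain ⟨T', f, s, hf, hsurj, hs⟩ := exists_sections A
  choose t ht using fun x => isPullback_trivialisation A (f x) (s x) (hs x)
  let M := fun x => Over.mk ((yon S).map (f x) ≫ A.b)
  exact (hloc _ _ (IsAlgSpace.yon_obj A.base) (fun x => IsAlgSpace.yon_obj (T' x))
    (isFppfCover_yon T' f hf fun x => ⟨x, hsurj x⟩) A.π.left (isAlgSpace_P hB hG A) _
    (fun x => (snd G (M x)).left) t (fun x => isAlgSpace_tensor hB hG (M x) (IsAlgSpace.yon_obj (T' x)))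
    ht).2 fun x => hbc hG hB (IsAlgSpace.yon_obj (T' x))
      (isAlgSpace_tensor hB hG (M x) (IsAlgSpace.yon_obj (T' x))) _ _ _ _ (isPullback_snd_left G (M x)) hP

/-- Torsors are surjective over their bases. -/
theorem surjective_torsor (A : SpQuotObj Scheme.fppfPrecoverage G aX) ⦃U : Over S⦄ (e : A.base = U) :
    AlgSp.IsSurjectiveMor (A.π.left ≫ (yon S).map (eqToHom e)) := by
  subst e
  rw [eqToHom_refl, CategoryTheory.Functor.map_id]
  erw [Category.comp_id]
  obtain ⟨T', f, s, hf, hsurj, hs⟩ := exists_sections A
  intro y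
  obtain ⟨z, rfl⟩ := (AlgSp.Points.schemeHomeo A.base).surjective y
  obtain ⟨w, hw⟩ := hsurj z
  refine ⟨AlgSp.Points.map (s z) (AlgSp.Points.schemeHomeo (T' z) w), ?_⟩
  rw [← AlgSp.Points.map_comp, hs z, AlgSp.Points.map_yon_map_eq]
  simp [hw]

end Groth.Agent.Lib.SpQuot
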