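import Groth.Agent.Lib.SpQuot.Triv
import Groth.Agent.Lib.SpQuot.RepTool
import Groth.Agent.Lib.AlgStack.FibProd
import Groth.Agent.Lib.AlgSpace.Basic

/-!
# The base change of `X ⟶ [X/G]` to a scheme is the torsor
-/

set_option autoImplicit false
set_option backward.isDefEq.respectTransparency false
set_option backward.isDefEq.respectTransparency.types false

universe u

open CategoryTheory CategoryTheory.Limits MonoidalCategory CartesianMonoidalCategory MonObj GrpObj AlgebraicGeometry Opposite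

namespace Groth.Agent.Lib.SpQuot

open AlgSp (Sp yon GAction IsAlgSpace)
open AlgSt (SpQuotObj SpQuotSt bHom spQuotMap secOver secYon ofSp spMapOfOver RepByAlgSpWith)
open FibCat (fp fpFst overCat)
open Groth.Agent.Lib.AlgSpace
open AlgStack

variable {S : Scheme.{u}} {K : Precoverage Scheme.{u}} [K.HasIsos] {B : Sp S} {G X : Over B} [GrpObj G]
  {aX : GAction G X}

/-- Sections and their points. -/
theorem secYon_mk {T : Over S} (q : (yon S).obj T ⟶ X.left) :
    secYon (⟨T, secEquiv T q⟩ : (ofSp X.left).obj) = q :=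
  (secEquiv T).symm_apply_apply q

theorem faithful_spQuotMap : (spQuotMap K G aX).toFunctor.Faithful :=
  ⟨fun {_ _ _ _} h => Stk.EltObj.hom_ext (congrArg SpQuotObj.Hom.base h :)⟩

variable [K.IsStableUnderBaseChange]

variable {U : Over S} (y : overCat U ⥤ᵇ SpQuotSt K G aX)

/-- The object over the vertex. -/
abbrev vertex : SpQuotObj K G aX := y.obj (Over.mk (𝟙 U))

theorem vertex_base : (vertex y).base = U := y.w_obj (Over.mk (𝟙 U))

/-- The map to the vertex. -/
noncomputable def toVertex (g : Over U) : y.obj g ⟶ vertex y := y.map (Yoneda.toId g)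

theorem obj_base (g : Over U) : (y.obj g).base = g.left := y.w_obj g

theorem toVertex_base (g : Over U) :
    (toVertex y g).base = eqToHom (obj_base y g) ≫ g.hom ≫ eqToHom (vertex_base y).symm :=
  CategoryTheory.Functor.congr_hom y.w (Yoneda.toId g)

theorem map_toVertex {g g' : Over U} (m : g ⟶ g') : y.map m ≫ toVertex y g' = toVertex y g := by
  refine (Functor.map_comp _ _ _).symm.trans (congrArg y.map ?_)
  exact Over.OverMorphism.ext (Over.w m)

/-- The point of an object of the base change. -/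
noncomputable def objPoint (ζ : (fp y (spQuotMap K G aX)).obj) :
    (yon S).obj ζ.obj.snd.base ⟶ (vertex y).P.left :=
  (point (x := secOver ζ.obj.snd) (ζ.obj.iso.inv ≫ toVertex y ζ.obj.fst)).left

/-- A point of the torsor of the vertex, as an object of the base change. -/
theorem exists_point_obj {T : Over S} (p : (yon S).obj T ⟶ (vertex y).P.left) :
    ∃ ζ : (fp y (spQuotMap K G aX)).obj, ζ.obj.fst = Over.mk ((yon S).preimage (p ≫ (vertex y).π.left) ≫
        eqToHom (vertex_base y)) ∧ ζ.obj.snd = ⟨T, secEquiv T (p ≫ (vertex y).φ.left)⟩ ∧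
      ∀ (h : ζ.obj.snd.base = T), objPoint y ζ = (yon S).map (eqToHom h) ≫ p := by
  let A := vertex y
  let a : (ofSp X.left).obj := ⟨T, secEquiv T (p ≫ A.φ.left)⟩
  let f : T ⟶ A.base := (yon S).preimage (p ≫ A.π.left)
  let u : Over U := Over.mk (f ≫ eqToHom (vertex_base y))
  have hp : p ≫ A.P.hom = secYon a ≫ X.hom := by rw [secYon_mk, Category.assoc, Over.w]
  let s : Over.mk (secYon a ≫ X.hom) ⟶ A.P := Over.homMk p hp
  have wb : (yon S).map f ≫ A.b = secYon a ≫ X.hom := by
    rw [(yon S).map_preimage, Category.assoc, ← hp]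
    exact congrArg _ (Over.w A.π)
  let m : (spQuotMap K G aX).obj a ⟶ A := ofPoint f wb s
    (Over.OverMorphism.ext ((yon S).map_preimage _).symm) (Over.OverMorphism.ext (secYon_mk _).symm)
  let k : T ⟶ (y.obj u).base := eqToHom (obj_base y u).symm
  have hk : k ≫ (toVertex y u).base = m.base := by
    rw [toVertex_base]
    simp [k, u, m, ofPoint]
  obtain ⟨l, ⟨hl, hlm⟩, -⟩ := exists_factor (toVertex y u) m k hk
  have hl' : (SpQuotSt K G aX).p.IsHomLift (𝟙 T) l := by
    refine IsHomLift.of_fac' _ _ _ rfl (obj_base y u) ?_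
    change l.base = _
    simp [hl, k]
  haveI := BasedBasic.isIso_of_isHomLift_id (isFibGrpd (K := K) (aX := aX)) (R := T) l
  refine ⟨FibProd.objMk u a (asIso l).symm ?_, rfl, rfl, fun _ => ?_⟩
  · change (SpQuotSt K G aX).p.IsHomLift (𝟙 T) (inv l)
    haveI : (SpQuotSt K G aX).p.IsHomLift (𝟙 T) (asIso l).hom := hl'
    exact IsHomLift.lift_id_inv _ T (asIso l)
  · change (point (x := secOver a) (l ≫ toVertex y u)).left = _
    rw [hlm, eqToHom_refl, CategoryTheory.Functor.map_id, Category.id_comp]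
    exact congrArg CommaMorphism.left (point_ofPoint f wb s _ _)

/-- The object of the base change attached to a point. -/
noncomputable def pointObj {T : Over S} (p : (yon S).obj T ⟶ (vertex y).P.left) :
    (fp y (spQuotMap K G aX)).obj :=
  (exists_point_obj y p).choose

theorem pointObj_fst {T : Over S} (p : (yon S).obj T ⟶ (vertex y).P.left) :
    (pointObj y p).obj.fst = Over.mk ((yon S).preimage (p ≫ (vertex y).π.left) ≫ eqToHom (vertex_base y)) :=
  (exists_point_obj y p).choose_spec.1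

theorem pointObj_snd {T : Over S} (p : (yon S).obj T ⟶ (vertex y).P.left) :
    (pointObj y p).obj.snd = ⟨T, secEquiv T (p ≫ (vertex y).φ.left)⟩ :=
  (exists_point_obj y p).choose_spec.2.1

theorem objPoint_pointObj {T : Over S} (p : (yon S).obj T ⟶ (vertex y).P.left) :
    objPoint y (pointObj y p) = (yon S).map (eqToHom (congrArg Stk.EltObj.base (pointObj_snd y p))) ≫ p := by
  exact (exists_point_obj y p).choose_spec.2.2 _

theorem objPoint_π (ζ : (fp y (spQuotMap K G aX)).obj) :
    objPoint y ζ ≫ (vertex y).π.left =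
      (yon S).map (ζ.obj.iso.inv ≫ toVertex y ζ.obj.fst).base :=
  point_π_left _

theorem objPoint_φ (ζ : (fp y (spQuotMap K G aX)).obj) :
    objPoint y ζ ≫ (vertex y).φ.left = secYon ζ.obj.snd :=
  congr($(point_φ (x := secOver ζ.obj.snd) (ζ.obj.iso.inv ≫ toVertex y ζ.obj.fst)).left)

theorem fst_left_eq (ζ : (fp y (spQuotMap K G aX)).obj) : ζ.obj.fst.left = ζ.obj.snd.base :=
  (FibProd.snd_obj ζ).symm

theorem iso_inv_base (ζ : (fp y (spQuotMap K G aX)).obj) :
    ζ.obj.iso.inv.base = eqToHom ((fst_left_eq y ζ).symm.trans (obj_base y ζ.obj.fst).symm) := by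
  have h : (SpQuotSt K G aX).p.IsHomLift (𝟙 ζ.obj.fst.left) ζ.obj.iso.hom := ζ.property
  have h' : (SpQuotSt K G aX).p.IsHomLift (𝟙 ζ.obj.fst.left) ζ.obj.iso.inv := IsHomLift.lift_id_inv _ _ _
  exact (IsHomLift.fac' (SpQuotSt K G aX).p (𝟙 ζ.obj.fst.left) ζ.obj.iso.inv).trans (by simp)

theorem fst_hom (ζ : (fp y (spQuotMap K G aX)).obj) :
    ζ.obj.fst.hom = eqToHom (fst_left_eq y ζ) ≫ (ζ.obj.iso.inv ≫ toVertex y ζ.obj.fst).base ≫
      eqToHom (vertex_base y) := by
  rw [SpQuotObj.comp_base, iso_inv_base, toVertex_base]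
  simp

/-- Morphisms of the base change over a morphism of schemes, from the points. -/
theorem exists_map_of_objPoint (ζ ζ' : (fp y (spQuotMap K G aX)).obj) (g : ζ.obj.snd.base ⟶ ζ'.obj.snd.base)
    (h : objPoint y ζ = (yon S).map g ≫ objPoint y ζ') :
    ∃ φ : ζ ⟶ ζ', φ.hom.snd.hom = g := by
  have hs : (X.left.obj.map g.op ζ'.obj.snd.sec) = ζ.obj.snd.sec := by
    have e : secYon ζ.obj.snd = (yon S).map g ≫ secYon ζ'.obj.snd := by
      rw [← objPoint_φ, ← objPoint_φ, h, Category.assoc]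
    have e' := congrArg (secEquiv (F := X.left) ζ.obj.snd.base) e
    rw [secEquiv_map] at e'
    exact ((Equiv.apply_symm_apply _ _).symm.trans (e'.trans (congrArg _ (Equiv.apply_symm_apply _ _)))).symm
  let χ : ζ.obj.snd ⟶ ζ'.obj.snd := ⟨g, hs⟩
  have hb : (ζ.obj.iso.inv ≫ toVertex y ζ.obj.fst).base =
      g ≫ (ζ'.obj.iso.inv ≫ toVertex y ζ'.obj.fst).base := (yon S).map_injective (by
    rw [Functor.map_comp, ← objPoint_π, ← objPoint_π, h, Category.assoc])
  let ψ : ζ.obj.fst ⟶ ζ'.obj.fst := Over.homMk (eqToHom (fst_left_eq y ζ) ≫ g ≫ eqToHom (fst_left_eq y ζ').symm) (by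
    rw [fst_hom y ζ, fst_hom y ζ', hb]
    simp)
  have key : (spQuotMap K G aX).map χ ≫ ζ'.obj.iso.inv = ζ.obj.iso.inv ≫ y.map ψ := by
    have hbase : ((spQuotMap K G aX).map χ ≫ ζ'.obj.iso.inv).base = (ζ.obj.iso.inv ≫ y.map ψ).base := by
      rw [SpQuotObj.comp_base, SpQuotObj.comp_base, iso_inv_base, iso_inv_base,
        show (y.map ψ).base = _ from CategoryTheory.Functor.congr_hom y.w ψ]
      change g ≫ _ = _
      change g ≫ _ = eqToHom _ ≫ eqToHom _ ≫ (eqToHom (fst_left_eq y ζ) ≫ g ≫ eqToHom (fst_left_eq y ζ').symm) ≫ eqToHom _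
      simp
    obtain ⟨l, -, hu⟩ := exists_factor (toVertex y ζ'.obj.fst)
      (((spQuotMap K G aX).map χ ≫ ζ'.obj.iso.inv) ≫ toVertex y ζ'.obj.fst)
      ((spQuotMap K G aX).map χ ≫ ζ'.obj.iso.inv).base rfl
    refine (hu _ ⟨rfl, rfl⟩).trans (hu _ ⟨hbase.symm, ?_⟩).symm
    rw [Category.assoc, map_toVertex, Category.assoc]
    apply hom_ext_of_point (x := secOver ζ.obj.snd)
    refine Over.OverMorphism.ext (h.trans ?_)
    have e := point_trivMap_comp (x := secOver ζ'.obj.snd) (x' := secOver ζ.obj.snd) g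
      ((congrArg (· ≫ X.hom) (AlgSt.secYon_comp χ)) ▸ (Category.assoc _ _ _).symm)
      (Over.OverMorphism.ext (AlgSt.secYon_comp χ)) (ζ'.obj.iso.inv ≫ toVertex y ζ'.obj.fst)
    exact congr($(e).left).symm
  refine ⟨FibProd.homMk ψ χ ?_, rfl⟩
  rw [← Iso.inv_comp_eq, ← Category.assoc, ← key, Category.assoc, Iso.inv_hom_id]
  exact Category.comp_id _

/-- Points of the torsor are compatible with morphisms of the base change. -/
theorem objPoint_of_map {ζ ζ' : (fp y (spQuotMap K G aX)).obj} (φ : ζ ⟶ ζ') :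
    objPoint y ζ = (yon S).map φ.hom.snd.hom ≫ objPoint y ζ' := by
  have hinv : (spQuotMap K G aX).map φ.hom.snd ≫ ζ'.obj.iso.inv = ζ.obj.iso.inv ≫ y.map φ.hom.fst := by
    rw [Iso.eq_inv_comp, ← Category.assoc, ← φ.hom.w, Category.assoc, Iso.hom_inv_id, Category.comp_id]
  have wb : (yon S).map φ.hom.snd.hom ≫ secYon ζ'.obj.snd ≫ X.hom = secYon ζ.obj.snd ≫ X.hom := by
    rw [← Category.assoc, AlgSt.secYon_comp]
  have hx : bHom φ.hom.snd.hom wb ≫ secOver ζ'.obj.snd = secOver ζ.obj.snd :=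
    Over.OverMorphism.ext (AlgSt.secYon_comp φ.hom.snd)
  have e := point_trivMap_comp (K := K) φ.hom.snd.hom wb hx (ζ'.obj.iso.inv ≫ toVertex y ζ'.obj.fst)
  have e2 : ζ.obj.iso.inv ≫ toVertex y ζ.obj.fst =
      (spQuotMap K G aX).map φ.hom.snd ≫ ζ'.obj.iso.inv ≫ toVertex y ζ'.obj.fst := by
    rw [← map_toVertex y φ.hom.fst, ← Category.assoc, ← hinv, Category.assoc]
  have e3 : (spQuotMap K G aX).map φ.hom.snd = trivMap φ.hom.snd.hom wb hx := SpQuotObj.hom_ext rfl rfl
  unfold objPoint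
  rw [e2, e3]
  exact congr($(e).left)

/-- The base change of `X ⟶ [X/G]` to a scheme is the torsor of the vertex. -/
theorem exists_equiv_unit :
    ∃ e : ofSp (vertex y).P.left ⥤ᵇ fp y (spQuotMap K G aX), FibCat.IsEquivOver e ∧
      spMapOfOver (BasedFunctor.comp e (fpFst y (spQuotMap K G aX))) =
        (vertex y).π.left ≫ (yon S).map (eqToHom (vertex_base y)) := by
  have hp : FibCat.IsFibGrpd (fp y (spQuotMap K G aX)).p :=
    FibProd.isFibGrpd_fp (Yoneda.isFibGrpd_overCat U) (Stk.isFibGrpd_ofPsh _) isFibGrpd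
  haveI := faithful_spQuotMap (K := K) (aX := aX)
  have hs : Yoneda.Setoidal (fp y (spQuotMap K G aX)) :=
    FibProd.setoidal_fp_of_faithful fun a φ h => Over.OverMorphism.ext h
  have hsnd : ∀ (ζ : (fp y (spQuotMap K G aX)).obj), (fp y (spQuotMap K G aX)).p.obj ζ = ζ.obj.snd.base :=
    fun ζ => fst_left_eq y ζ
  have hbase : ∀ {T : Over S} (p : (yon S).obj T ⟶ (vertex y).P.left), (pointObj y p).obj.snd.base = T :=
    fun p => congrArg Stk.EltObj.base (pointObj_snd y p)
  have hlift : ∀ {ζ ζ' : (fp y (spQuotMap K G aX)).obj} (φ : ζ ⟶ ζ') {T T' : Over S} (g : T ⟶ T')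
      (hζ : ζ.obj.snd.base = T) (hζ' : ζ'.obj.snd.base = T'),
      φ.hom.snd.hom = eqToHom hζ ≫ g ≫ eqToHom hζ'.symm →
      (fp y (spQuotMap K G aX)).p.IsHomLift g φ := fun {ζ ζ'} φ {T T'} g hζ hζ' e => by
    refine IsHomLift.of_fac' _ _ _ ((hsnd ζ).trans hζ) ((hsnd ζ').trans hζ') ?_
    have := FibCat.fp_isHomLift_snd y (spQuotMap K G aX) φ
    have h := IsHomLift.fac (ofSp X.left).p ((fp y (spQuotMap K G aX)).p.map φ) φ.hom.snd
    refine h.trans ?_
    change _ ≫ φ.hom.snd.hom ≫ _ = _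
    rw [e]
    simp
  obtain ⟨e, he, heobj⟩ := RepTool.exists_equiv (F := (vertex y).P.left.obj) hp hs
    (fun T x => pointObj y ((secEquiv T).symm x))
    (fun T x => (hsnd _).trans (hbase _))
    (fun {T T'} g x => by
      obtain ⟨φ, hφ⟩ := exists_map_of_objPoint y (pointObj y ((secEquiv T').symm ((vertex y).P.left.obj.map g.op x)))
        (pointObj y ((secEquiv T).symm x)) (eqToHom (hbase _) ≫ g ≫ eqToHom (hbase _).symm) (by
          rw [objPoint_pointObj, objPoint_pointObj, ← yon_map_comp_secEquiv_symm, ← Category.assoc,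
            ← Category.assoc, ← Functor.map_comp, ← Functor.map_comp]
          simp)
      exact ⟨φ, hlift φ g (hbase _) (hbase _) hφ⟩)
    (fun T x x' φ hφ => by
      apply (secEquiv T).symm.injective
      let ζ := pointObj y ((secEquiv T).symm x)
      let ζ' := pointObj y ((secEquiv T).symm x')
      have hb : φ.hom.snd.hom = eqToHom ((hbase _).trans (hbase _).symm) := by
        have h1 := IsHomLift.fac' (fp y (spQuotMap K G aX)).p (𝟙 T) φ
        have := FibCat.fp_isHomLift_snd y (spQuotMap K G aX) φ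
        have h := IsHomLift.fac' (ofSp X.left).p ((fp y (spQuotMap K G aX)).p.map φ) φ.hom.snd
        refine h.trans ?_
        exact (congrArg (fun k => eqToHom _ ≫ k ≫ eqToHom _) h1).trans (by simp)
      have h2 : objPoint y ζ = (yon S).map φ.hom.snd.hom ≫ objPoint y ζ' := objPoint_of_map y φ
      rw [objPoint_pointObj, objPoint_pointObj, hb, ← Category.assoc, ← Functor.map_comp, eqToHom_trans] at h2
      exact (cancel_epi _).1 h2)
    (fun ζ => by
      let p := (yon S).map (eqToHom (hsnd ζ)) ≫ objPoint y ζ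
      refine ⟨secEquiv _ p, ?_⟩
      obtain ⟨φ, hφ⟩ := exists_map_of_objPoint y (pointObj y ((secEquiv _).symm (secEquiv _ p))) ζ
        (eqToHom ((hbase _).trans (hsnd ζ))) (by
          rw [objPoint_pointObj, Equiv.symm_apply_apply, ← Category.assoc, ← Functor.map_comp, eqToHom_trans])
      exact ⟨φ, hlift φ _ (hbase _) (hsnd ζ).symm (hφ.trans (by simp))⟩)
  refine ⟨e, he, Groth.Agent.Lib.AlgSpace.hom_ext fun T p => ?_⟩
  apply (secEquiv T).injective
  rw [secEquiv_comp, AlgSt.spMapOfOver_app]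
  have hh : AlgSt.secHom (BasedFunctor.comp e (fpFst y (spQuotMap K G aX))) ⟨T, secEquiv T p⟩ =
      (yon S).preimage (p ≫ (vertex y).π.left) ≫ eqToHom (vertex_base y) := by
    have h1 : (BasedFunctor.comp e (fpFst y (spQuotMap K G aX))).obj ⟨T, secEquiv T p⟩ =
        Over.mk ((yon S).preimage (p ≫ (vertex y).π.left) ≫ eqToHom (vertex_base y)) := by
      change (e.obj _).obj.fst = _
      rw [heobj, pointObj_fst, Equiv.symm_apply_apply]
    rw [AlgSt.secHom]
    generalize_proofs h2
    revert h2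
    generalize (BasedFunctor.comp e (fpFst y (spQuotMap K G aX))).obj ⟨T, secEquiv T p⟩ = c at h1
    intro h2
    subst h1
    exact Category.id_comp _
  rw [hh]
  refine congrArg ULift.up ?_ |>.trans (congrArg (secEquiv T) (((yon S).map_comp _ _).trans
    (congrArg (· ≫ _) ((yon S).map_preimage _)) |>.trans (Category.assoc _ _ _)))
  exact (Category.id_comp _).symm

/-- `X ⟶ [X/G]` is representable with a property satisfied by all torsors. -/
theorem repByAlgSpWith_spQuotMap {P : MorphismProperty (Sp S)}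
    (hA : ∀ A : SpQuotObj K G aX, IsAlgSpace A.P.left)
    (hP : ∀ (A : SpQuotObj K G aX) ⦃U : Over S⦄ (e : A.base = U), P (A.π.left ≫ (yon S).map (eqToHom e))) :
    RepByAlgSpWith P (spQuotMap K G aX) := by
  intro U y
  obtain ⟨e, he, hs⟩ := exists_equiv_unit y
  exact ⟨⟨_, hA (vertex y)⟩, e, he, hs ▸ hP (vertex y) (vertex_base y)⟩

end Groth.Agent.Lib.SpQuot
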